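import Mathlib
import Cfsg.Agent.Classical.SLThree.SingMain
import Cfsg.Agent.Classical.Misc.SLTwoGen

/-!
Transvection subgroups of three by three matrix groups: commutators of elations, the plane group of an opposite
pair, halving, irreducibility.
-/

set_option autoImplicit false
set_option linter.unusedSectionVars false
set_option linter.unusedSimpArgs false
set_option linter.style.haveILetI false

namespace Cfsg.Lib.MitchellThree.Elation

open Matrix Cfsg.Lib.Classical Cfsg.Lib.Classical.LinOne Cfsg.Lib.Classical.SLThree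
  Cfsg.Lib.Classical.SLThree.Elation Cfsg.Lib.Classical.SLThree.Singer
open scoped MatrixGroups

universe u

variable {F : Type u} [Field F] {G : Subgroup (GL (Fin 3) F)}

local notation "MM" => Matrix (Fin 3) (Fin 3) F
local notation "GG" => GL (Fin 3) F
local notation "VV" => (Fin 3 → F)

/-- The subgroup generated by the transvections of a group. -/
def transGen (G : Subgroup (GL (Fin 3) F)) : Subgroup (GL (Fin 3) F) :=
  Subgroup.closure {g | g ∈ G ∧ ∃ x φ : Fin 3 → F, φ ⬝ᵥ x = 0 ∧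
    (g : Matrix (Fin 3) (Fin 3) F) = 1 + vecMulVec x φ}

theorem transGen_le : transGen G ≤ G := (Subgroup.closure_le _).2 fun _ h => h.1

theorem inc_transGen {x φ : VV} : Inc (transGen G) x φ ↔ Inc G x φ := by
  refine ⟨fun h => ⟨h.1, ?_⟩, fun h => ⟨h.1, ?_⟩⟩
  · obtain ⟨g, hg, hv⟩ := h.2
    exact ⟨g, transGen_le hg, hv⟩
  · obtain ⟨g, hg, hv⟩ := h.2
    exact ⟨g, Subgroup.subset_closure ⟨hg, x, φ, h.1, hv⟩, hv⟩

theorem half_mem [Finite F] (h2 : (2 : F) ≠ 0) {M : Type*} [AddCommGroup M] [Module F M] {B : AddSubgroup M}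
    {z : M} (h : (2 : F) • z ∈ B) : z ∈ B := by
  obtain ⟨p, hp⟩ := CharP.exists F
  have hpp : p.Prime := CharP.char_is_prime F p
  have hp2 : p ≠ 2 := by rintro rfl; exact h2 (by exact_mod_cast CharP.cast_eq_zero F 2)
  obtain ⟨t, ht⟩ := hpp.odd_of_ne_two hp2
  have he : (((t + 1 : ℕ) : F)) * 2 = 1 := by
    have h0 : ((p : ℕ) : F) = 0 := CharP.cast_eq_zero F p
    rw [ht] at h0
    push_cast at h0 ⊢
    linear_combination h0
  have := B.nsmul_mem h (t + 1)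
  rwa [← Nat.cast_smul_eq_nsmul F, smul_smul, he, one_smul] at this

/-! Commutators. -/

theorem Inc.comm {x φ y ψ : VV} (h : Inc G x φ) (h' : Inc G y ψ) (h0 : ψ ⬝ᵥ x = 0) :
    Inc G ((φ ⬝ᵥ y) • x) ψ :=
  ⟨by rw [dotProduct_smul, h0, smul_zero], h.2.comm_left h'.2 h.1 h'.1 h0⟩

theorem Inc.comm' {x φ y ψ : VV} (h : Inc G x φ) (h' : Inc G y ψ) (h0 : φ ⬝ᵥ y = 0) :
    Inc G y ((-(ψ ⬝ᵥ x)) • φ) :=
  ⟨by rw [smul_dotProduct, h0, smul_zero], h.2.comm_right h'.2 h.1 h'.1 h0⟩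

theorem Inc.neg {x φ : VV} (h : Inc G x φ) : Inc G (-x) φ :=
  ⟨by rw [dotProduct_neg, h.1, neg_zero], h.2.negL h.1⟩

theorem Inc.neg' {x φ : VV} (h : Inc G x φ) : Inc G x (-φ) :=
  ⟨by rw [neg_dotProduct, h.1, neg_zero], h.2.neg h.1⟩

theorem Inc.smul_right {x φ : VV} {a : F} (h : Inc G x (a • φ)) (ha : a ≠ 0) : Inc G (a • x) φ := by
  have := Inc.scale h (mul_inv_cancel₀ ha)
  rwa [inv_smul_smul₀ ha] at this

theorem Inc.mono {H : Subgroup GG} (hle : G ≤ H) {x φ : VV} (h : Inc G x φ) : Inc H x φ :=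
  let ⟨g, hg, hv⟩ := h.2
  ⟨h.1, g, hle hg, hv⟩

/-! The plane group of an opposite pair. -/

/-- The columns. -/
def eCol (x y : VV) : Matrix (Fin 3) (Fin 2) F := Matrix.of fun i j => ![x, y] j i

/-- The rows. -/
def eRow (φ ψ : VV) : Matrix (Fin 2) (Fin 3) F := Matrix.of ![φ, ψ]

theorem eRow_mul_eCol {x y φ ψ : VV} (h1 : φ ⬝ᵥ x = 1) (h2 : φ ⬝ᵥ y = 0) (h3 : ψ ⬝ᵥ x = 0)
    (h4 : ψ ⬝ᵥ y = 1) : eRow φ ψ * eCol x y = 1 := by
  ext i j
  fin_cases i <;> fin_cases j <;>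
    simp [eRow, eCol, Matrix.mul_apply, dotProduct] at h1 h2 h3 h4 ⊢ <;> assumption

/-- The action on the plane spanned by the columns. -/
def embM (E : Matrix (Fin 3) (Fin 2) F) (R : Matrix (Fin 2) (Fin 3) F) (hRE : R * E = 1) : SL(2, F) →* MM where
  toFun M := 1 + E * ((M : Matrix (Fin 2) (Fin 2) F) - 1) * R
  map_one' := by simp
  map_mul' M N := by
    have h : ∀ A B : Matrix (Fin 2) (Fin 2) F, E * A * R * (E * B * R) = E * (A * B) * R := fun A B => by
      calc E * A * R * (E * B * R) = E * A * (R * E) * (B * R) := by simp only [Matrix.mul_assoc]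
        _ = E * (A * B) * R := by rw [hRE, Matrix.mul_one]; simp only [Matrix.mul_assoc]
    rw [add_mul, one_mul, mul_add, mul_one, h, Matrix.SpecialLinearGroup.coe_mul, add_assoc, ← Matrix.add_mul,
      ← Matrix.mul_add, ← Matrix.add_mul, ← Matrix.mul_add]
    congr 3
    noncomm_ring

/-- The same into the general linear group. -/
def emb (E : Matrix (Fin 3) (Fin 2) F) (R : Matrix (Fin 2) (Fin 3) F) (hRE : R * E = 1) : SL(2, F) →* GG :=
  (embM E R hRE).toHomUnits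

theorem emb_val (E : Matrix (Fin 3) (Fin 2) F) (R : Matrix (Fin 2) (Fin 3) F) (hRE : R * E = 1) (M : SL(2, F)) :
    ((emb E R hRE M : GG) : MM) = 1 + E * ((M : Matrix (Fin 2) (Fin 2) F) - 1) * R := rfl

theorem eCol_mul_eRow (x y φ ψ : VV) (M : Matrix (Fin 2) (Fin 2) F) :
    eCol x y * M * eRow φ ψ = M 0 0 • vecMulVec x φ + M 0 1 • vecMulVec x ψ + M 1 0 • vecMulVec y φ +
      M 1 1 • vecMulVec y ψ := by
  ext i j
  simp [eCol, eRow, Matrix.mul_apply, Fin.sum_univ_two, vecMulVec_apply]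
  ring

theorem plane_val (k : Subfield F) (x y φ ψ : VV) (hRE : eRow φ ψ * eCol x y = 1) (s : SL(2, k)) :
    (((emb (eCol x y) (eRow φ ψ) hRE).comp (SpecialLinearGroup.map k.subtype) s : GG) : MM) =
      1 + (((s.1 0 0 : k) : F) - 1) • vecMulVec x φ + ((s.1 0 1 : k) : F) • vecMulVec x ψ +
        ((s.1 1 0 : k) : F) • vecMulVec y φ + (((s.1 1 1 : k) : F) - 1) • vecMulVec y ψ := by
  rw [MonoidHom.comp_apply, emb_val, eCol_mul_eRow, ← add_assoc, ← add_assoc, ← add_assoc]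
  simp [Matrix.sub_apply]

theorem sl_val {K : Type*} [Field K] (a b c d : K) (h : a * d - b * c = 1) :
    (Cfsg.Lib.Classical.PSLFour.sl a b c d h).1 = !![a, b; c, d] := rfl

/-- An opposite pair. -/
structure Opp (G : Subgroup (GL (Fin 3) F)) (x φ y ψ : Fin 3 → F) : Prop where
  hg : Inc G x φ
  hh : Inc G y ψ
  ha : φ ⬝ᵥ y ≠ 0
  hb : ψ ⬝ᵥ x ≠ 0

theorem Opp.symm {x φ y ψ : VV} (P : Opp G x φ y ψ) : Opp G y ψ x φ := ⟨P.hh, P.hg, P.hb, P.ha⟩

theorem sq_one {K : Type*} [Field K] (h2 : (2 : K) ≠ 0) {s : SL(2, K)} (h : s * s = 1) : s = 1 ∨ s = -1 := by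
  have e : ∀ i j, (s.1 * s.1) i j = (1 : Matrix (Fin 2) (Fin 2) K) i j := fun i j => by
    rw [← Matrix.SpecialLinearGroup.coe_mul, h]; rfl
  have hd := s.2
  rw [det_fin_two] at hd
  have e00 := e 0 0; have e01 := e 0 1; have e10 := e 1 0; have e11 := e 1 1
  simp [Matrix.mul_apply, Fin.sum_univ_two] at e00 e01 e10 e11
  have h1 : s.1 0 0 * (s.1 0 0 + s.1 1 1) = 2 := by linear_combination e00 + hd
  have hne : s.1 0 0 + s.1 1 1 ≠ 0 := fun e => h2 (by rw [← h1, e, mul_zero])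
  have h01 : s.1 0 1 = 0 := mul_right_cancel₀ hne (by rw [zero_mul]; linear_combination e01)
  have h10 : s.1 1 0 = 0 := mul_right_cancel₀ hne (by rw [zero_mul]; linear_combination e10)
  have hda : s.1 1 1 = s.1 0 0 := mul_right_cancel₀ hne (by linear_combination e11 - e00)
  have hsq : s.1 0 0 * s.1 0 0 = 1 := by linear_combination e00 - s.1 1 0 * h01
  rcases mul_self_eq_one_iff.1 hsq with e1 | e1
  · refine Or.inl (Subtype.ext ?_)
    ext i j
    fin_cases i <;> fin_cases j <;> simp [h01, h10, hda, e1]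
  · refine Or.inr (Subtype.ext ?_)
    ext i j
    fin_cases i <;> fin_cases j <;> simp [h01, h10, hda, e1]

section finite

variable [Finite F]

/-- Images of the group generated by two transvections. -/
theorem Opp.gen_le {x φ y ψ : VV} (P : Opp G x φ y ψ) (k : Subfield F) (l : k)
    (hl : (l : F) = (φ ⬝ᵥ y) * (ψ ⬝ᵥ x)) :
    ∃ hRE, SLTwoGen.gen l ≤ G.comap ((emb (eCol x ((ψ ⬝ᵥ x) • y))
      (eRow ((ψ ⬝ᵥ x)⁻¹ • ψ) (((φ ⬝ᵥ y) * (ψ ⬝ᵥ x))⁻¹ • φ)) hRE).comp (SpecialLinearGroup.map k.subtype)) := by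
  have hab := mul_ne_zero P.ha P.hb
  refine ⟨eRow_mul_eCol (by simp [P.hb]) (by simp [P.hh.1]) (by simp [P.hg.1])
    (by simp [smul_smul]; field_simp [P.ha, P.hb]), (Subgroup.closure_le _).2 ?_⟩
  rintro s (rfl | rfl)
  · obtain ⟨g, hg, hv⟩ := P.hh.2
    rw [SetLike.mem_coe, Subgroup.mem_comap, MonoidHom.comp_apply]
    convert hg
    refine Units.ext ?_
    rw [← MonoidHom.comp_apply, plane_val, hv]
    simp [SLTwoGen.gl1, sl_val, vecMulVec_smul, smul_vecMulVec, smul_smul, P.hb]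
  · obtain ⟨g, hg, hv⟩ := P.hg.2
    rw [SetLike.mem_coe, Subgroup.mem_comap, MonoidHom.comp_apply]
    convert hg
    refine Units.ext ?_
    rw [← MonoidHom.comp_apply, plane_val, hv]
    simp [SLTwoGen.gu, sl_val, vecMulVec_smul, smul_vecMulVec, smul_smul, hl]
    rw [show (φ ⬝ᵥ y) * (ψ ⬝ᵥ x) * ((ψ ⬝ᵥ x)⁻¹ * (φ ⬝ᵥ y)⁻¹) = 1 by field_simp [P.ha, P.hb], one_smul]

/-- Dickson's theorem for the product of a pair, on the field it generates. -/
theorem dickson_closure (h2 : (2 : F) ≠ 0) {c : F} (hc : c ≠ 0) :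
    (-1 : SL(2, Subfield.closure ({c} : Set F))) ∈
        SLTwoGen.gen (⟨c, Subfield.subset_closure rfl⟩ : Subfield.closure ({c} : Set F)) ∧
      (¬ ((3 : F) = 0 ∧ c ^ 2 = -1) →
        SLTwoGen.gen (⟨c, Subfield.subset_closure rfl⟩ : Subfield.closure ({c} : Set F)) = ⊤) := by
  classical
  set k := Subfield.closure ({c} : Set F)
  haveI : Fintype k := Fintype.ofFinite k
  set l : k := ⟨c, Subfield.subset_closure rfl⟩
  have h2k : (2 : k) ≠ 0 := fun e => h2 (by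
    have := congrArg k.subtype e
    rwa [map_ofNat, map_zero] at this)
  have hl : l ≠ 0 := fun e => hc (congrArg Subtype.val e)
  have hgen : Subfield.closure ({l} : Set k) = ⊤ := by
    refine top_le_iff.1 fun z _ => ?_
    have hz : (z : F) ∈ (Subfield.closure ({l} : Set k)).map k.subtype := by
      rw [RingHom.map_field_closure, Set.image_singleton]
      exact z.2
    obtain ⟨w, hw, e⟩ := hz
    rwa [Subtype.ext e] at hw
  rcases SLTwoGen.dickson_gen h2k l hl hgen with ⟨e, -⟩ | ⟨h9, hl2, hcard⟩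
  · exact ⟨e ▸ Subgroup.mem_top _, fun _ => e⟩
  refine ⟨?_, fun h => absurd ⟨?_, by simpa [l] using congrArg k.subtype hl2⟩ h⟩
  · haveI : Fact (Nat.Prime 2) := ⟨Nat.prime_two⟩
    haveI : Finite (SLTwoGen.gen l) := Nat.finite_of_card_ne_zero (by omega)
    obtain ⟨s, hs⟩ := exists_prime_orderOf_dvd_card' (G := SLTwoGen.gen l) 2 (by omega)
    have hss : (s : SL(2, k)) * s = 1 := by
      have := pow_orderOf_eq_one s
      rw [hs, pow_two] at this
      exact congrArg Subtype.val this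
    rcases sq_one h2k hss with e | e
    · exfalso
      rw [show s = 1 from Subtype.ext e, orderOf_one] at hs
      omega
    · rw [← e]; exact s.2
  · have h0 : ((Fintype.card k : ℕ) : k) = 0 := Nat.cast_card_eq_zero k
    rw [h9] at h0
    have h3 : (3 : F) * 3 = 0 := by
      have := congrArg k.subtype h0
      rw [map_natCast, map_zero] at this
      norm_num
      exact_mod_cast this
    exact (mul_self_eq_zero.1 h3)

/-- The involution of an opposite pair. -/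
theorem Opp.neg_mem (h2 : (2 : F) ≠ 0) {x φ y ψ : VV} (P : Opp G x φ y ψ) :
    ∃ j ∈ G, (j : MM) = 1 - (2 / (ψ ⬝ᵥ x)) • vecMulVec x ψ - (2 / (φ ⬝ᵥ y)) • vecMulVec y φ ∧ j * j = 1 := by
  have hab := mul_ne_zero P.ha P.hb
  obtain ⟨hRE, hle⟩ := P.gen_le (Subfield.closure {(φ ⬝ᵥ y) * (ψ ⬝ᵥ x)}) ⟨_, Subfield.subset_closure rfl⟩ rfl
  refine ⟨_, hle (dickson_closure h2 hab).1, ?_, by rw [← map_mul, neg_mul_neg, one_mul, map_one]⟩
  rw [MonoidHom.comp_apply, emb_val, eCol_mul_eRow]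
  have h00 : (-1 : F) - 1 = -2 := by ring
  simp [vecMulVec_smul, smul_vecMulVec, smul_smul, h00]
  match_scalars <;> field_simp [P.ha, P.hb]

/-- Halving with the involution of a pair. -/
theorem Opp.split (h2 : (2 : F) ≠ 0) {x φ y ψ z : VV} (P : Opp G x φ y ψ) (hz : Inc G z φ) :
    Inc G (z - ((ψ ⬝ᵥ z) / (ψ ⬝ᵥ x)) • x) φ := by
  obtain ⟨j, hj, hjv, hjj⟩ := P.neg_mem h2
  have hji : (j⁻¹ : GG) = j := inv_eq_of_mul_eq_one_right hjj
  have h := hz.conj hj
  rw [hji, hjv, vecMul_sub, vecMul_sub, vecMul_one, vecMul_smul, vecMul_smul, vecMul_vecMulVec, vecMul_vecMulVec,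
    P.hg.1, zero_smul, smul_zero, sub_zero, smul_smul, div_mul_cancel₀ _ P.ha,
    show φ - (2 : F) • φ = -φ by module] at h
  rw [sub_mulVec, sub_mulVec, one_mulVec, smul_mulVec, smul_mulVec, vecMulVec_mulVec, vecMulVec_mulVec,
    op_smul_eq_smul, op_smul_eq_smul, hz.1, zero_smul, smul_zero, sub_zero] at h
  have hsum := (Bgp G φ).add_mem (mem_Bgp.2 hz) (mem_Bgp.2 (by simpa using Inc.neg' h :
    Inc G (z - (2 / (ψ ⬝ᵥ x)) • ((ψ ⬝ᵥ z) • x)) φ))
  refine mem_Bgp.1 (half_mem h2 ?_)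
  convert hsum using 1
  module

/-- A pair whose product is not exceptional gives the field it generates. -/
theorem Opp.field (h2 : (2 : F) ≠ 0) {x φ y ψ : VV} (P : Opp G x φ y ψ)
    (hne : ¬ ((3 : F) = 0 ∧ ((φ ⬝ᵥ y) * (ψ ⬝ᵥ x)) ^ 2 = -1)) {c : F}
    (hc : c ∈ Subfield.closure ({(φ ⬝ᵥ y) * (ψ ⬝ᵥ x)} : Set F)) :
    Inc G (c • x) φ ∧ Inc G (c • y) ψ ∧ (c ≠ 0 → ∃ d ∈ G,
      (d : MM) *ᵥ x = c • x ∧ φ ᵥ* ((d⁻¹ : GG) : MM) = c • φ ∧ (d : MM) *ᵥ y = c⁻¹ • y ∧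
        ψ ᵥ* ((d⁻¹ : GG) : MM) = c⁻¹ • ψ) := by
  have hab := mul_ne_zero P.ha P.hb
  set k := Subfield.closure ({(φ ⬝ᵥ y) * (ψ ⬝ᵥ x)} : Set F) with hk
  obtain ⟨hRE, hle⟩ := P.gen_le k ⟨_, Subfield.subset_closure rfl⟩ rfl
  rw [(dickson_closure h2 hab).2 hne] at hle
  have hl : (φ ⬝ᵥ y) * (ψ ⬝ᵥ x) ∈ k := Subfield.subset_closure rfl
  have hmem := fun s => hle (Subgroup.mem_top s)
  refine ⟨⟨by rw [dotProduct_smul, P.hg.1, smul_zero], ?_⟩, ⟨by rw [dotProduct_smul, P.hh.1, smul_zero], ?_⟩,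
    fun hc0 => ?_⟩
  · refine ⟨_, hmem (Cfsg.Lib.Classical.PSLFour.sl 1 (⟨c, hc⟩ * ⟨_, hl⟩) 0 1 (by ring)), ?_⟩
    rw [plane_val]
    simp [sl_val, vecMulVec_smul, smul_vecMulVec, smul_smul]
    congr 1
    field_simp [P.ha, P.hb]
  · refine ⟨_, hmem (Cfsg.Lib.Classical.PSLFour.sl 1 0 ⟨c, hc⟩ 1 (by ring)), ?_⟩
    rw [plane_val]
    simp [sl_val, vecMulVec_smul, smul_vecMulVec, smul_smul]
    congr 1
    field_simp [P.hb]
  · let cc : k := ⟨c, hc⟩
    have hcc : cc ≠ 0 := fun e => hc0 (congrArg Subtype.val e)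
    let t : SL(2, k) := Cfsg.Lib.Classical.PSLFour.sl cc 0 0 cc⁻¹ (by rw [mul_inv_cancel₀ hcc, mul_zero, sub_zero])
    refine ⟨_, hmem t, ?_, ?_, ?_, ?_⟩
    · rw [plane_val]
      simp [t, cc, sl_val, add_mulVec, vecMulVec_mulVec, smul_mulVec, vecMulVec_smul,
        smul_vecMulVec, smul_smul, P.hg.1, P.hh.1, P.hb]
      match_scalars
      field_simp [P.hb]
      ring
    · rw [← map_inv, plane_val, Matrix.SpecialLinearGroup.coe_inv]
      simp [t, cc, sl_val, Matrix.adjugate_fin_two, vecMul_add, vecMul_smul,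
        vecMul_vecMulVec, vecMulVec_smul, smul_vecMulVec, smul_smul, P.hg.1, P.hh.1]
      match_scalars
      field_simp [P.ha, P.hb]
      ring
    · rw [plane_val]
      simp [t, cc, sl_val, add_mulVec, vecMulVec_mulVec, smul_mulVec, vecMulVec_smul,
        smul_vecMulVec, smul_smul, P.hg.1, P.hh.1]
      match_scalars
      field_simp [P.ha, P.hb]
      ring
    · rw [← map_inv, plane_val, Matrix.SpecialLinearGroup.coe_inv]
      simp [t, cc, sl_val, Matrix.adjugate_fin_two, vecMul_add, vecMul_smul,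
        vecMul_vecMulVec, vecMulVec_smul, smul_vecMulVec, smul_smul, P.hg.1, P.hh.1]
      match_scalars
      field_simp [P.ha, P.hb]
      ring

end finite

/-! Irreducibility. -/

theorem exists_centre (hirr : Irr G) {x φ : VV} (hx : x ≠ 0) (hφ : φ ≠ 0) (h : Inc G x φ) {χ : VV} (hχ : χ ≠ 0) :
    ∃ y ψ, y ≠ 0 ∧ ψ ≠ 0 ∧ Inc G y ψ ∧ χ ⬝ᵥ y ≠ 0 := by
  by_contra hc
  push Not at hc
  let S : Submodule F VV := Submodule.span F {y | ∃ ψ, y ≠ 0 ∧ ψ ≠ 0 ∧ Inc G y ψ}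
  have hS : S = ⊤ := by
    refine (hirr S fun k hk z hz => ?_).resolve_left fun e => hx ((Submodule.mem_bot F).1
      (e ▸ Submodule.subset_span ⟨φ, hx, hφ, h⟩))
    induction hz using Submodule.span_induction with
    | mem w hw =>
      obtain ⟨ψ, hw0, hψ, hI⟩ := hw
      exact Submodule.subset_span ⟨_, GL_ne_zero_mulVec k hw0, GL_ne_zero_vecMul _ hψ, hI.conj hk⟩
    | zero => rw [mulVec_zero]; exact S.zero_mem
    | add a b _ _ ha hb => rw [mulVec_add]; exact S.add_mem ha hb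
    | smul c a _ ha => rw [mulVec_smul]; exact S.smul_mem c ha
  refine hχ (dotProduct_eq_zero χ fun z => ?_)
  have hz : z ∈ S := hS ▸ Submodule.mem_top
  induction hz using Submodule.span_induction with
  | mem w hw =>
    obtain ⟨ψ, hw0, hψ, hI⟩ := hw
    exact hc w ψ hw0 hψ hI
  | zero => exact dotProduct_zero χ
  | add a b _ _ ha hb => rw [dotProduct_add, ha, hb, add_zero]
  | smul c a _ ha => rw [dotProduct_smul, ha, smul_zero]

section dual

variable [Fintype F]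

theorem irr_dualHom (hirr : Irr G) : Irr (G.map dualHom) := fun S hS =>
  hirr.dual S fun k hk φ hφ => by
    have := hS (dualHom k⁻¹) (Subgroup.mem_map_of_mem _ (G.inv_mem hk)) φ hφ
    rwa [dualHom_val, inv_inv, mulVec_transpose] at this

theorem exists_axis (hirr : Irr G) {x φ : VV} (hx : x ≠ 0) (hφ : φ ≠ 0) (h : Inc G x φ) {v : VV} (hv : v ≠ 0) :
    ∃ y ψ, y ≠ 0 ∧ ψ ≠ 0 ∧ Inc G y ψ ∧ ψ ⬝ᵥ v ≠ 0 := by
  obtain ⟨ψ, y, hψ, hy, hI, hne⟩ := exists_centre (irr_dualHom hirr) hφ hx (inc_dual h) hv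
  exact ⟨y, ψ, hy, hψ, inc_dual_iff.1 hI, by rwa [dotProduct_comm]⟩

end dual

/-! Change of frame. -/

/-- The conjugate group. -/
abbrev conjG (P : GG) (G : Subgroup GG) : Subgroup GG := G.map (MulAut.conj P).toMonoidHom

theorem inc_conjG {P : GG} {x φ : VV} (h : Inc G x φ) :
    Inc (conjG P G) ((P : MM) *ᵥ x) (φ ᵥ* ((P⁻¹ : GG) : MM)) := by
  obtain ⟨g, hg, hv⟩ := h.2
  refine ⟨(dot_conj P x φ).trans h.1, _, Subgroup.mem_map_of_mem _ hg, ?_⟩
  show ((P * g * P⁻¹ : GG) : MM) = _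
  rw [Units.val_mul, Units.val_mul, hv, mul_add, mul_one, add_mul, mul_vecMulVec, vecMulVec_mul,
    ← Units.val_mul, mul_inv_cancel, Units.val_one]

theorem conjG_inv (P : GG) (G : Subgroup GG) : conjG P⁻¹ (conjG P G) = G := by
  ext g
  simp [conjG, Subgroup.mem_map, mul_assoc]

theorem inc_conjG_iff {P : GG} {x φ : VV} :
    Inc (conjG P G) x φ ↔ Inc G (((P⁻¹ : GG) : MM) *ᵥ x) (φ ᵥ* (P : MM)) := by
  refine ⟨fun h => ?_, fun h => ?_⟩
  · have := inc_conjG (P := P⁻¹) h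
    rwa [conjG_inv, inv_inv] at this
  · have := inc_conjG (P := P) h
    rwa [mulVec_mulVec, vecMul_vecMul, ← Units.val_mul, mul_inv_cancel, Units.val_one, one_mulVec, vecMul_one] at this

theorem irr_conjG {P : GG} (hirr : Irr G) : Irr (conjG P G) := by
  intro S hS
  let f : VV →ₗ[F] VV := Matrix.mulVecLin (P : MM)
  have hinv : ∀ v : VV, (P : MM) *ᵥ (((P⁻¹ : GG) : MM) *ᵥ v) = v := fun v => by
    rw [mulVec_mulVec, ← Units.val_mul, mul_inv_cancel, Units.val_one, one_mulVec]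
  rcases hirr (S.comap f) (fun k hk v hv => by
    have := hS _ (Subgroup.mem_map_of_mem _ hk) _ (Submodule.mem_comap.1 hv)
    change (((P * k * P⁻¹ : GG) : MM)) *ᵥ ((P : MM) *ᵥ v) ∈ S at this
    rw [mulVec_mulVec, ← Units.val_mul, inv_mul_cancel_right, Units.val_mul, ← mulVec_mulVec] at this
    exact this) with h | h
  · refine Or.inl ((Submodule.eq_bot_iff _).2 fun v hv => ?_)
    have : ((P⁻¹ : GG) : MM) *ᵥ v ∈ S.comap f := by simpa [f, hinv] using hv
    rw [h, Submodule.mem_bot] at this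
    rw [← hinv v, this, mulVec_zero]
  · refine Or.inr (Submodule.eq_top_iff'.2 fun v => ?_)
    have : ((P⁻¹ : GG) : MM) *ᵥ v ∈ S.comap f := h ▸ Submodule.mem_top
    simpa [f, hinv] using this

theorem transGen_conjG (P : GG) : transGen (conjG P G) = conjG P (transGen G) := by
  refine le_antisymm ((Subgroup.closure_le _).2 ?_) ?_
  · rintro _ ⟨⟨g, hg, rfl⟩, x, φ, h0, hv⟩
    have h' : Inc G (((P⁻¹ : GG) : MM) *ᵥ x) (φ ᵥ* (P : MM)) :=
      inc_conjG_iff.1 ⟨h0, _, Subgroup.mem_map_of_mem _ hg, hv⟩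
    obtain ⟨t, ht, htv⟩ := (inc_conjG (P := P) (inc_transGen.2 h')).2
    refine SetLike.mem_coe.2 ?_
    convert ht using 1
    refine Units.ext ?_
    rw [hv, htv, mulVec_mulVec, vecMul_vecMul, ← Units.val_mul, mul_inv_cancel, Units.val_one, one_mulVec, vecMul_one]
  · rw [conjG, Subgroup.map_le_iff_le_comap, transGen, Subgroup.closure_le]
    rintro g ⟨hg, x, φ, h0, hv⟩
    obtain ⟨t, ht, htv⟩ := (inc_transGen.2 (inc_conjG (P := P) (⟨h0, g, hg, hv⟩ : Inc G x φ))).2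
    rw [SetLike.mem_coe, Subgroup.mem_comap]
    convert ht using 1
    refine Units.ext ?_
    show ((P * g * P⁻¹ : GG) : MM) = _
    rw [Units.val_mul, Units.val_mul, hv, htv, mul_add, mul_one, add_mul, mul_vecMulVec, vecMulVec_mul,
      ← Units.val_mul, mul_inv_cancel, Units.val_one]

end Cfsg.Lib.MitchellThree.Elation
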