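import Cfsg.Agent.MitchellThree.Elation.Basic

/-!
A group of three by three matrices covering a non-abelian simple group with an involution, with scalar kernel, in
odd characteristic fixes no line and no plane.
-/

set_option autoImplicit false
set_option linter.unusedSectionVars false
set_option linter.unusedSimpArgs false
set_option linter.style.haveILetI false

namespace Cfsg.Lib.MitchellThree.Elation

open Matrix Cfsg.Lib.Classical Cfsg.Lib.Classical.LinOne Cfsg.Lib.Classical.SLThree
  Cfsg.Lib.Classical.SLThree.Singer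
open scoped MatrixGroups commutatorElement

universe u v

variable {F : Type u} [Field F]

local notation "MM" => Matrix (Fin 3) (Fin 3) F
local notation "GG" => GL (Fin 3) F
local notation "VV" => (Fin 3 → F)

/-- A scalar matrix. -/
def IsScalar (g : GL (Fin 3) F) : Prop :=
  ∃ c : F, (g : Matrix (Fin 3) (Fin 3) F) = c • (1 : Matrix (Fin 3) (Fin 3) F)

theorem scalar_conj {P g : GG} (h : IsScalar g) : IsScalar (P * g * P⁻¹) := by
  obtain ⟨c, hc⟩ := h
  refine ⟨c, ?_⟩
  rw [Units.val_mul, Units.val_mul, hc, Matrix.mul_smul, Matrix.mul_one, Matrix.smul_mul, ← Units.val_mul,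
    mul_inv_cancel, Units.val_one]

/-- The data of a covering with scalar kernel. -/
structure Cover (Y : Subgroup (GL (Fin 3) F)) {L : Type v} [Group L] (π : Y →* L) : Prop where
  surj : Function.Surjective π
  ker : ∀ y : Y, π y = 1 ↔ IsScalar (y : GL (Fin 3) F)

section simple

variable {L : Type v} [Group L] [IsSimpleGroup L]

theorem commutator_top (hL : ¬ IsMulCommutative L) : commutator L = ⊤ := by
  refine (commutator L).normal_of_characteristic.eq_bot_or_eq_top.resolve_left fun e => hL ⟨⟨fun a b => ?_⟩⟩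
  have h : ⁅a, b⁆ ∈ commutator L :=
    Subgroup.commutator_mem_commutator (Subgroup.mem_top a) (Subgroup.mem_top b)
  rw [e, Subgroup.mem_bot, commutatorElement_eq_one_iff_mul_comm] at h
  exact h

theorem no_fixed_first (h2 : (2 : F) ≠ 0) (hL : ¬ IsMulCommutative L) {t : L} (ht : t ≠ 1) (htt : t * t = 1)
    {Y : Subgroup GG} {π : Y →* L} (C : Cover Y π)
    (h : ∀ y : Y, ((y : GG) : MM) 1 0 = 0 ∧ ((y : GG) : MM) 2 0 = 0) : False := by
  have mul00 : ∀ a b : Y, (((a * b : Y) : GG) : MM) 0 0 = ((a : GG) : MM) 0 0 * ((b : GG) : MM) 0 0 := by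
    intro a b
    rw [Subgroup.coe_mul, Units.val_mul, Matrix.mul_apply, Fin.sum_univ_three, (h b).1, (h b).2]
    ring
  let lam : Y →* F :=
    { toFun := fun y => ((y : GG) : MM) 0 0
      map_one' := by simp
      map_mul' := mul00 }
  have hcomm : ∀ w ∈ commutator Y, ((w : GG) : MM) 0 0 = 1 ∧ ((w : GG) : MM).det = 1 := fun w hw => by
    refine ⟨?_, ?_⟩
    · have := Abelianization.commutator_subset_ker lam.toHomUnits hw
      exact congrArg Units.val (MonoidHom.mem_ker.1 this)
    · have := Abelianization.commutator_subset_ker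
        ((Matrix.GeneralLinearGroup.det : GG →* Fˣ).comp Y.subtype) hw
      rw [← Matrix.GeneralLinearGroup.val_det_apply]
      exact congrArg Units.val (MonoidHom.mem_ker.1 this)
  have hmap : (commutator Y).map π = ⊤ := by
    rw [commutator_def, Subgroup.map_commutator, Subgroup.map_top_of_surjective π C.surj, ← commutator_def]
    exact commutator_top hL
  obtain ⟨s, hs, hst⟩ : t ∈ (commutator Y).map π := hmap ▸ Subgroup.mem_top t
  obtain ⟨hs0, hsd⟩ := hcomm s hs
  have hss : s * s = 1 := by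
    obtain ⟨c, hc⟩ := (C.ker (s * s)).1 (by rw [map_mul, hst, htt])
    have h00 := mul00 s s
    rw [hs0, hc] at h00
    have hc1 : c = 1 := by simpa using h00
    refine Subtype.ext (Units.ext ?_)
    rw [hc, hc1, one_smul]
    rfl
  have hs0' : ((s : GG) : MM) 0 0 = 1 := hs0
  set S : MM := ((s : GG) : MM) with hS
  have eS : ∀ i j, (S * S) i j = (1 : MM) i j := fun i j => by
    rw [hS, ← Units.val_mul, ← Subgroup.coe_mul, hss]; rfl
  have hdB : S 1 1 * S 2 2 - S 1 2 * S 2 1 = 1 := by
    simp only [det_fin_three, hS] at hsd hs0 ⊢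
    rw [(h s).1, (h s).2, hs0] at hsd
    linear_combination hsd
  let B : SL(2, F) := ⟨!![S 1 1, S 1 2; S 2 1, S 2 2], by rw [det_fin_two_of]; exact hdB⟩
  have hBB : B * B = 1 := by
    apply Subtype.ext
    show !![S 1 1, S 1 2; S 2 1, S 2 2] * !![S 1 1, S 1 2; S 2 1, S 2 2] = 1
    have e11 := eS 1 1; have e12 := eS 1 2; have e21 := eS 2 1; have e22 := eS 2 2
    simp [Matrix.mul_apply, Fin.sum_univ_three, hS, (h s).1, (h s).2] at e11 e12 e21 e22
    ext i j
    fin_cases i <;> fin_cases j <;> simp [Matrix.mul_apply, Fin.sum_univ_two, hS, e11, e12, e21, e22]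
  have e01 := eS 0 1; have e02 := eS 0 2
  simp [Matrix.mul_apply, Fin.sum_univ_three, hS] at e01 e02 hs0'
  rw [hs0'] at e01 e02
  rcases sq_one h2 hBB with e | e
  · -- then the element is trivial
    have b : ∀ i j, !![S 1 1, S 1 2; S 2 1, S 2 2] i j = (1 : Matrix (Fin 2) (Fin 2) F) i j := fun i j =>
      congrFun (congrFun (congrArg Subtype.val e) i) j
    have b00 := b 0 0; have b01 := b 0 1; have b10 := b 1 0; have b11 := b 1 1
    simp [hS] at b00 b01 b10 b11
    rw [b00, b10] at e01
    rw [b01, b11] at e02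
    have h01 : ((s : GG) : MM) 0 1 = 0 := (mul_eq_zero.1 (show (2 : F) * _ = 0 by linear_combination e01)).resolve_left h2
    have h02 : ((s : GG) : MM) 0 2 = 0 := (mul_eq_zero.1 (show (2 : F) * _ = 0 by linear_combination e02)).resolve_left h2
    refine ht ?_
    rw [← hst]
    refine (C.ker s).2 ⟨1, ?_⟩
    rw [one_smul]
    ext i j
    fin_cases i <;> fin_cases j <;> simp [hs0', (h s).1, (h s).2, h01, h02, b00, b01, b10, b11]
  · -- then it is central
    have b : ∀ i j, !![S 1 1, S 1 2; S 2 1, S 2 2] i j = -((1 : Matrix (Fin 2) (Fin 2) F) i j) := fun i j =>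
      congrFun (congrFun (congrArg Subtype.val e) i) j
    have b00 := b 0 0; have b01 := b 0 1; have b10 := b 1 0; have b11 := b 1 1
    simp [hS] at b00 b01 b10 b11
    let N : Subgroup Y :=
      { carrier := {y | ∀ i j : Fin 3, (i ≠ 0 ∨ j = 0) → ((y : GG) : MM) i j = (1 : MM) i j}
        one_mem' := fun i j _ => rfl
        mul_mem' := fun {a b} ha hb i j hij => by
          rw [Subgroup.coe_mul, Units.val_mul, Matrix.mul_apply, Fin.sum_univ_three]
          fin_cases i <;> fin_cases j <;> simp at hij <;>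
            simp [ha 1 0 (Or.inl (by decide)), ha 1 1 (Or.inl (by decide)), ha 1 2 (Or.inl (by decide)),
              ha 2 0 (Or.inl (by decide)), ha 2 1 (Or.inl (by decide)), ha 2 2 (Or.inl (by decide)),
              hb 1 0 (Or.inl (by decide)), hb 1 1 (Or.inl (by decide)), hb 1 2 (Or.inl (by decide)),
              hb 2 0 (Or.inl (by decide)), hb 2 1 (Or.inl (by decide)), hb 2 2 (Or.inl (by decide)),
              ha 0 0 (Or.inr rfl), hb 0 0 (Or.inr rfl)]
        inv_mem' := fun {a} ha i j hij => by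
          have hmul : ((a : GG) : MM) * (((a⁻¹ : Y) : GG) : MM) = 1 := by
            rw [Subgroup.coe_inv, ← Units.val_mul, mul_inv_cancel, Units.val_one]
          have e := congrFun (congrFun hmul i) j
          rw [Matrix.mul_apply, Fin.sum_univ_three] at e
          have z1 := (h a⁻¹).1
          have z2 := (h a⁻¹).2
          simp at z1 z2
          fin_cases i <;> fin_cases j <;> simp at hij <;>
            simpa [ha 1 0 (Or.inl (by decide)), ha 1 1 (Or.inl (by decide)), ha 1 2 (Or.inl (by decide)),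
              ha 2 0 (Or.inl (by decide)), ha 2 1 (Or.inl (by decide)), ha 2 2 (Or.inl (by decide)),
              ha 0 0 (Or.inr rfl), z1, z2] using e }
    have mN : ∀ {y : Y}, y ∈ N ↔ ∀ i j : Fin 3, (i ≠ 0 ∨ j = 0) → ((y : GG) : MM) i j = (1 : MM) i j := Iff.rfl
    haveI hNn : N.Normal := ⟨fun n hn y => mN.2 fun i j hij => by
      have hinv : ((y : GG) : MM) * (((y⁻¹ : Y) : GG) : MM) = 1 := by
        rw [Subgroup.coe_inv, ← Units.val_mul, mul_inv_cancel, Units.val_one]
      have e : (((y * n * y⁻¹ : Y) : GG) : MM) =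
          1 + ((y : GG) : MM) * (((n : GG) : MM) - 1) * (((y⁻¹ : Y) : GG) : MM) := by
        rw [Subgroup.coe_mul, Subgroup.coe_mul, Units.val_mul, Units.val_mul, Matrix.mul_sub, Matrix.mul_one,
          Matrix.sub_mul, hinv, add_sub_cancel]
      rw [e, Matrix.add_apply, add_eq_left, Matrix.mul_apply]
      simp only [Matrix.mul_apply, Fin.sum_univ_three, Matrix.sub_apply]
      have n00 := hn 0 0 (Or.inr rfl)
      have n1 := fun j => hn 1 j (Or.inl (by decide))
      have n2 := fun j => hn 2 j (Or.inl (by decide))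
      rw [n00, n1 0, n1 1, n1 2, n2 0, n2 1, n2 2]
      rcases hij with hi | rfl
      · have : ((y : GG) : MM) i 0 = 0 := by
          fin_cases i
          · exact absurd rfl hi
          · exact (h y).1
          · exact (h y).2
        rw [this]; ring
      · rw [(h y⁻¹).1, (h y⁻¹).2]; simp⟩
    have hNc : ∀ a ∈ N, ∀ c ∈ N, a * c = c * a := by
      intro a ha c hc
      refine Subtype.ext (Units.ext ?_)
      rw [Subgroup.coe_mul, Subgroup.coe_mul, Units.val_mul, Units.val_mul]
      ext i j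
      rw [Matrix.mul_apply, Matrix.mul_apply, Fin.sum_univ_three, Fin.sum_univ_three]
      fin_cases i <;> fin_cases j <;>
        simp [ha 1 0 (Or.inl (by decide)), ha 1 1 (Or.inl (by decide)), ha 1 2 (Or.inl (by decide)),
          ha 2 0 (Or.inl (by decide)), ha 2 1 (Or.inl (by decide)), ha 2 2 (Or.inl (by decide)),
          hc 1 0 (Or.inl (by decide)), hc 1 1 (Or.inl (by decide)), hc 1 2 (Or.inl (by decide)),
          hc 2 0 (Or.inl (by decide)), hc 2 1 (Or.inl (by decide)), hc 2 2 (Or.inl (by decide)),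
          ha 0 0 (Or.inr rfl), hc 0 0 (Or.inr rfl)] <;> ring
    have hNbot : N.map π = ⊥ := by
      haveI : (N.map π).Normal := hNn.map π C.surj
      refine (inferInstance : (N.map π).Normal).eq_bot_or_eq_top.resolve_right fun e => hL ⟨⟨fun a c => ?_⟩⟩
      obtain ⟨a', ha', rfl⟩ : a ∈ N.map π := e ▸ Subgroup.mem_top a
      obtain ⟨c', hc', rfl⟩ : c ∈ N.map π := e ▸ Subgroup.mem_top c
      rw [← map_mul, hNc a' ha' c' hc', map_mul]
    have hcen : t ∈ Subgroup.center L := by
      refine Subgroup.mem_center_iff.2 fun g => ?_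
      obtain ⟨w, hw, rfl⟩ : g ∈ (commutator Y).map π := hmap ▸ Subgroup.mem_top g
      set z := s * w * s⁻¹ * w⁻¹ with hz
      have hzN : z ∈ N := mN.2 fun i j hij => by
        have hsinv : s⁻¹ = s := inv_eq_of_mul_eq_one_right hss
        have hzw : (((z * w : Y) : GG) : MM) = S * ((w : GG) : MM) * S := by
          rw [hz, hsinv, inv_mul_cancel_right]; rfl
        have hz0 : ((z : GG) : MM) 0 0 = 1 := (hcomm z (by
          rw [hz]
          exact mul_mem (mul_mem (mul_mem hs hw) (inv_mem hs)) (inv_mem hw))).1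
        have hwi : (((z * w : Y) : GG) : MM) * (((w⁻¹ : Y) : GG) : MM) = ((z : GG) : MM) := by
          rw [← Units.val_mul, ← Subgroup.coe_mul, mul_inv_cancel_right]
        have hww : ((w : GG) : MM) * (((w⁻¹ : Y) : GG) : MM) = 1 := by
          rw [← Units.val_mul, ← Subgroup.coe_mul, mul_inv_cancel]; rfl
        have key : ∀ a b : Fin 3, a ≠ 0 → (((z * w : Y) : GG) : MM) a b = ((w : GG) : MM) a b := by
          intro a b ha
          rw [hzw]
          simp only [Matrix.mul_apply, Fin.sum_univ_three]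
          fin_cases a <;> fin_cases b <;> simp at ha <;>
            simp [hS, hs0', (h s).1, (h s).2, (h w).1, (h w).2, b00, b01, b10, b11]
        by_cases hi : i = 0
        · subst hi
          obtain rfl : j = 0 := hij.resolve_left (by simp)
          simpa using hz0
        · rw [← hwi, ← hww, Matrix.mul_apply, Matrix.mul_apply]
          exact Finset.sum_congr rfl fun b _ => by rw [key i b hi]
      have hπz : π z = 1 := Subgroup.mem_bot.1 (hNbot ▸ Subgroup.mem_map_of_mem π hzN)
      rw [hz, map_mul, map_mul, map_mul, map_inv, map_inv, hst, mul_inv_eq_one, mul_inv_eq_iff_eq_mul] at hπz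
      exact hπz.symm
    rcases (Subgroup.center L).normal_of_characteristic.eq_bot_or_eq_top with e | e
    · exact ht (Subgroup.mem_bot.1 (e ▸ hcen))
    · exact hL ⟨⟨fun a c => (Subgroup.mem_center_iff.1 (e ▸ Subgroup.mem_top a : a ∈ Subgroup.center L) c).symm⟩⟩

theorem exists_first_col {v : VV} (hv : v ≠ 0) : ∃ P : GG, (P : MM) *ᵥ v = Pi.single 0 1 := by
  have key : ∀ M : MM, M.det ≠ 0 → (∀ i, M i 0 = v i) → ∃ P : GG, (P : MM) *ᵥ v = Pi.single 0 1 := by
    intro M hd hcol
    let Q : GG := Matrix.GeneralLinearGroup.mkOfDetNeZero M hd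
    refine ⟨Q⁻¹, ?_⟩
    have : (Q : MM) *ᵥ Pi.single 0 1 = v := funext fun i => by
      show (M *ᵥ Pi.single 0 1) i = v i
      rw [mulVec_single_one]
      exact hcol i
    rw [← this, mulVec_mulVec, ← Units.val_mul, inv_mul_cancel, Units.val_one, one_mulVec]
  by_cases h0 : v 0 = 0
  · by_cases h1 : v 1 = 0
    · have h2 : v 2 ≠ 0 := fun h2 => hv (funext fun i => by fin_cases i <;> assumption)
      exact key !![v 0, 0, 1; v 1, 1, 0; v 2, 0, 0] (by simp [det_fin_three, h0, h1, h2])
        fun i => by fin_cases i <;> rfl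
    · exact key !![v 0, 1, 0; v 1, 0, 0; v 2, 0, 1] (by simp [det_fin_three, h0, h1])
        fun i => by fin_cases i <;> rfl
  · exact key !![v 0, 0, 0; v 1, 1, 0; v 2, 0, 1] (by simp [det_fin_three, h0]) fun i => by fin_cases i <;> rfl

/-- Transport along an injective endomorphism of the ambient group. -/
theorem Cover.map {Y : Subgroup GG} {π : Y →* L} (C : Cover Y π) (f : GG →* GG) (hf : Function.Injective f)
    (hs : ∀ g, IsScalar (f g) ↔ IsScalar g) :
    Cover (Y.map f) (π.comp (Subgroup.equivMapOfInjective Y f hf).symm.toMonoidHom) := by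
  refine ⟨C.surj.comp (Subgroup.equivMapOfInjective Y f hf).symm.surjective, fun y => ?_⟩
  obtain ⟨x, rfl⟩ := (Subgroup.equivMapOfInjective Y f hf).surjective y
  rw [MonoidHom.comp_apply, MulEquiv.coe_toMonoidHom, MulEquiv.symm_apply_apply, C.ker,
    Subgroup.coe_equivMapOfInjective_apply, hs]

theorem no_fixed_line (h2 : (2 : F) ≠ 0) (hL : ¬ IsMulCommutative L) {t : L} (ht : t ≠ 1) (htt : t * t = 1)
    {Y : Subgroup GG} {π : Y →* L} (C : Cover Y π) {v : VV} (hv : v ≠ 0)
    (h : ∀ y ∈ Y, ∃ a : F, (y : MM) *ᵥ v = a • v) : False := by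
  obtain ⟨P, hP⟩ := exists_first_col hv
  refine no_fixed_first h2 hL ht htt (C.map (MulAut.conj P).toMonoidHom (MulAut.conj P).injective fun g =>
    ⟨fun hg => ?_, scalar_conj⟩) fun y => ?_
  · have := scalar_conj (P := P⁻¹) hg
    simpa [mul_assoc] using this
  · obtain ⟨y, g, hg, rfl⟩ := y
    obtain ⟨a, ha⟩ := h g hg
    have e : (((P * g * P⁻¹ : GG)) : MM) *ᵥ Pi.single 0 1 = a • Pi.single 0 1 := by
      rw [← hP, mulVec_mulVec, ← Units.val_mul, inv_mul_cancel_right, Units.val_mul, ← mulVec_mulVec, ha,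
        mulVec_smul]
    have e1 := congrFun e 1
    have e2 := congrFun e 2
    rw [mulVec_single_one] at e1 e2
    simp at e1 e2
    refine ⟨?_, ?_⟩
    · simpa using e1
    · simpa using e2

theorem irr_of_cover [Fintype F] (h2 : (2 : F) ≠ 0) (hL : ¬ IsMulCommutative L) {t : L} (ht : t ≠ 1)
    (htt : t * t = 1) {Y : Subgroup GG} {π : Y →* L} (C : Cover Y π) : Irr Y := by
  intro S hS
  by_contra hne
  push Not at hne
  obtain ⟨hbot, htop⟩ := hne
  obtain ⟨x, hxS, hx⟩ := Submodule.exists_mem_ne_zero_of_ne_bot hbot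
  by_cases hline : ∀ z ∈ S, ∃ a : F, z = a • x
  · exact no_fixed_line h2 hL ht htt C hx fun y hy => hline _ (hS y hy x hxS)
  push Not at hline
  obtain ⟨z, hzS, hz⟩ := hline
  obtain ⟨φ, hφ, hφx, hφz⟩ := exists_pair x z
  rw [dotProduct_comm] at hφx hφz
  have hz' : z ∉ Submodule.span F ({x} : Set VV) := fun hc => by
    obtain ⟨a, ha⟩ := Submodule.mem_span_singleton.1 hc
    exact hz a ha.symm
  -- the plane is the kernel of the functional
  have hker : ∀ w, φ ⬝ᵥ w = 0 → w ∈ S := fun w hw => by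
    obtain ⟨a, b, rfl⟩ := mem_span_pair hφ hφx hφz hw hx hz'
    exact S.add_mem (S.smul_mem a hxS) (S.smul_mem b hzS)
  have hSk : ∀ w ∈ S, φ ⬝ᵥ w = 0 := by
    by_contra hc
    push Not at hc
    obtain ⟨w, hw, hw0⟩ := hc
    refine htop (Submodule.eq_top_iff'.2 fun v => ?_)
    have := S.add_mem (hker (v - ((φ ⬝ᵥ v) / (φ ⬝ᵥ w)) • w) (by
      rw [dotProduct_sub, dotProduct_smul, smul_eq_mul, div_mul_cancel₀ _ hw0, sub_self]))
      (S.smul_mem ((φ ⬝ᵥ v) / (φ ⬝ᵥ w)) hw)
    rwa [sub_add_cancel] at this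
  have hdual : ∀ g : GG, IsScalar (dualHom g) ↔ IsScalar g := by
    have key : ∀ g : GG, IsScalar g → IsScalar (dualHom g) := fun g ⟨c, hc⟩ => by
      have hc0 : c ≠ 0 := fun e0 => g.ne_zero (by rw [hc, e0, zero_smul])
      have : ((g⁻¹ : GG) : MM) = c⁻¹ • 1 := by
        rw [Matrix.coe_units_inv, hc]
        refine Matrix.inv_eq_right_inv ?_
        rw [Matrix.smul_mul, Matrix.mul_smul, Matrix.one_mul, smul_smul, mul_inv_cancel₀ hc0, one_smul]
      exact ⟨c⁻¹, by rw [dualHom_val, this, transpose_smul, transpose_one]⟩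
    exact fun g => ⟨fun h => dualHom_dual g ▸ key _ h, key g⟩
  refine no_fixed_line h2 hL ht htt
    (C.map dualHom (fun a b e => by rw [← dualHom_dual a, e, dualHom_dual]) hdual) hφ ?_
  rintro _ ⟨g, hg, rfl⟩
  rw [dualHom_val, mulVec_transpose]
  obtain ⟨i, hi⟩ := Function.ne_iff.1 hφ
  set ψ := φ ᵥ* ((g⁻¹ : GG) : MM) with hψdef
  refine ⟨ψ i / φ i, dotProduct_eq_iff.1 fun w => ?_⟩
  rw [smul_dotProduct, smul_eq_mul]
  have hψ : ∀ w, φ ⬝ᵥ w = 0 → ψ ⬝ᵥ w = 0 := fun w hw => by
    rw [hψdef, ← dotProduct_mulVec]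
    exact hSk _ (hS _ (Y.inv_mem hg) w (hker w hw))
  have := hψ (w - ((φ ⬝ᵥ w) / φ i) • Pi.single i 1) (by
    rw [dotProduct_sub, dotProduct_smul, smul_eq_mul, dotProduct_single, mul_one,
      div_mul_cancel₀ _ hi, sub_self])
  rw [dotProduct_sub, dotProduct_smul, smul_eq_mul, dotProduct_single, mul_one, sub_eq_zero] at this
  rw [this]
  ring

end simple

end Cfsg.Lib.MitchellThree.Elation
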