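import Cfsg.Agent.MitchellThree.Elation.Unitary
import Cfsg.Agent.Classical.SUThree.Full
import Cfsg.Agent.Classical.Unitary.Matrix

/-!
Recognition of irreducible groups of three by three matrices in odd characteristic containing a transvection: the
transvections generate the special linear or the special unitary group of a subfield.
-/

set_option autoImplicit false
set_option linter.unusedSectionVars false
set_option linter.unusedSimpArgs false
set_option linter.style.haveILetI false
set_option maxHeartbeats 400000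

namespace Cfsg.Lib.MitchellThree.Elation

open Matrix Cfsg.Lib.Classical Cfsg.Lib.Classical.LinOne Cfsg.Lib.Classical.SLThree
  Cfsg.Lib.Classical.SLThree.Elation Cfsg.Lib.Classical.SLThree.Singer Cfsg.Lib.Components.UnitaryThree
open scoped MatrixGroups

universe u

variable {F : Type u} [Field F] {G : Subgroup (GL (Fin 3) F)}

local notation "MM" => Matrix (Fin 3) (Fin 3) F
local notation "GG" => GL (Fin 3) F
local notation "VV" => (Fin 3 → F)

/-- A vector over a subfield. -/
def incl (K : Subfield F) (v : Fin 3 → K) : Fin 3 → F := fun i => (v i : F)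

theorem subMap_mulVec (K : Subfield F) (A : GL (Fin 3) K) (v : Fin 3 → K) :
    ((subMap K A : GG) : MM) *ᵥ incl K v = incl K ((A : Matrix (Fin 3) (Fin 3) K) *ᵥ v) :=
  funext fun i => (RingHom.map_mulVec K.subtype (A : Matrix (Fin 3) (Fin 3) K) v i).symm

theorem incl_dot (K : Subfield F) (a b : Fin 3 → K) : incl K a ⬝ᵥ incl K b = ((a ⬝ᵥ b : K) : F) :=
  (RingHom.map_dotProduct K.subtype a b).symm

theorem unit_uT {K : Type u} [Field K] [Fintype K] {q : ℕ} (hK : Fintype.card K = q ^ 2) {v : Fin 3 → K}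
    (hv : (stdHerm 3 hK).h v v = 0) {s : K} (hs : s + (stdHerm 3 hK).σ s = 0) :
    ((unitToGL hK ((stdHerm 3 hK).uT hv hs) : GL (Fin 3) K) : Matrix (Fin 3) (Fin 3) K) =
      1 + vecMulVec (s • v) (fun i => powConj hK (v i)) := by
  apply Matrix.mulVec_injective
  funext x
  rw [unitToGL_mulVec, HermSpace.uT_apply, one_mulVec', smul_smul, mul_comm s]
  congr 3
  show ∑ i, x i * powConj hK (v i) = _
  simp [dotProduct, mul_comm]

variable [Fintype F]

theorem card_fixed_sq {k : Subfield F} {σ : F →+* F} (hσ : ∀ x, σ x = x ^ Nat.card k)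
    (hfix : ∀ x, σ x = x ↔ x ∈ k) {r : F} (hrr : σ (σ r) = r) (hr : σ r ≠ r) (K : Subfield F)
    (hK : ∀ x, x ∈ K ↔ σ (σ x) = x) : Nat.card K = Nat.card k ^ 2 := by
  classical
  haveI : Fintype K := Fintype.ofFinite K
  have hq : 2 ≤ Nat.card k := by
    have : Nontrivial k := inferInstance
    exact Finite.one_lt_card
  refine le_antisymm ?_ ?_
  · by_contra hlt
    push Not at hlt
    rw [Nat.card_eq_fintype_card (α := K)] at hlt
    have h1 : 1 < Nat.card k ^ 2 := by nlinarith
    have hP : (Polynomial.X ^ (Nat.card k ^ 2) - Polynomial.X : Polynomial F) ≠ 0 :=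
      FiniteField.X_pow_card_sub_X_ne_zero F h1
    refine hP (Polynomial.eq_zero_of_natDegree_lt_card_of_eval_eq_zero _ (Subtype.val_injective (p := (· ∈ K)))
      (fun a => ?_) ?_)
    · have h := (hK a).1 a.2
      rw [hσ, hσ, ← pow_mul, ← pow_two] at h
      rw [Polynomial.eval_sub, Polynomial.eval_pow, Polynomial.eval_X, h, sub_self]
    · rwa [FiniteField.X_pow_card_sub_X_natDegree_eq F h1]
  · let f : k × k → K := fun p => ⟨(p.1 : F) + p.2 * r, (hK _).2 (by
      rw [map_add, map_mul, map_add, map_mul, (hfix _).2 p.1.2, (hfix _).2 p.2.2, (hfix _).2 p.1.2,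
        (hfix _).2 p.2.2, hrr])⟩
    have hf : Function.Injective f := fun ⟨a, b⟩ ⟨a', b'⟩ e => by
      have e' : (a : F) + b * r = a' + b' * r := congrArg Subtype.val e
      have hbb : (b : F) = b' := by
        by_contra hne
        have h0 : (b : F) - b' ≠ 0 := sub_ne_zero.2 hne
        refine hr ((hfix r).2 ?_)
        have : r = ((a' : F) - a) / ((b : F) - b') := by
          rw [eq_div_iff h0]; linear_combination e'
        rw [this]
        exact k.div_mem (k.sub_mem a'.2 a.2) (k.sub_mem b.2 b'.2)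
      rw [hbb] at e'
      exact Prod.ext (Subtype.ext (add_right_cancel e')) (Subtype.ext hbb)
    have := Nat.card_le_card_of_injective f hf
    rwa [Nat.card_prod, ← pow_two] at this

theorem Base.unitary {k : Subfield F} {σ : F →+* F} {r : F} (hσ : ∀ x, σ x = x ^ Nat.card k)
    (B : Base G k σ r) :
    ∃ (P : GG) (K : Subfield F) (q : ℕ), Nat.card K = q ^ 2 ∧ 3 ≤ q ∧
      conjG P (transGen G) = (Cfsg.GU 3 K q ⊓ Cfsg.Geo.specialLinear (Fin 3) K).map (subMap K) := by
  classical
  obtain ⟨hrr, hr, hroot⟩ := B.third_form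
  set q := Nat.card k with hq
  have hq3 : 3 ≤ q := by
    haveI : Fintype k := Fintype.ofFinite k
    have h1 : 1 < q := Finite.one_lt_card
    by_contra hlt
    have h2 : Fintype.card k = 2 := by rw [← Nat.card_eq_fintype_card]; omega
    refine B.two ?_
    have := congrArg k.subtype (Nat.cast_card_eq_zero k)
    rw [map_natCast, map_zero, h2] at this
    exact_mod_cast this
  set K : Subfield F := RingHom.eqLocusField (σ.comp σ) (RingHom.id F) with hKdef
  have hK : ∀ x, x ∈ K ↔ σ (σ x) = x := fun x => Iff.rfl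
  have hcard := card_fixed_sq hσ B.fix hrr hr K hK
  haveI : Fintype K := Fintype.ofFinite K
  have hK2 : Fintype.card K = q ^ 2 := by rw [← Nat.card_eq_fintype_card, hcard]
  let σK : K →+* K := (σ.comp K.subtype).codRestrict K fun x => (hK _).2 (congrArg σ ((hK _).1 x.2))
  have hσK : ∀ x : K, ((σK x : K) : F) = σ x := fun x => rfl
  have hpow : ∀ x : K, powConj hK2 x = σK x := fun x => Subtype.ext (by
    rw [powConj_apply, hσK, hσ, SubmonoidClass.coe_pow])
  set D := r - σ r with hD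
  have hσD : σ D = -D := by rw [hD, map_sub, hrr]; ring
  have hDK : D ∈ K := (hK _).2 (by rw [hσD, map_neg, hσD, neg_neg])
  have hD0 : D ≠ 0 := sub_ne_zero.2 (Ne.symm hr)
  let DK : K := ⟨D, hDK⟩
  have hDK0 : DK ≠ 0 := fun e => hD0 (congrArg Subtype.val e)
  have hDσ : σK DK = -DK := Subtype.ext hσD
  have hinvol : ∀ a : K, σK (σK a) = a := fun a => Subtype.ext ((hK _).1 a.2)
  have hchi : ∀ v : Fin 3 → K, incl K (chi σK DK v) = chi σ D (incl K v) := fun v => by
    funext i; fin_cases i <;> simp [incl, chi, hσK, DK]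
  let H : HermSpace K (Fin 3 → K) :=
    { σ := σK
      h := fun x z => DK * (chi σK DK z ⬝ᵥ x)
      conj := ⟨hinvol, ⟨⟨r, (hK r).2 hrr⟩, fun e => hr (congrArg Subtype.val e)⟩⟩
      add_left := fun x y z => by rw [dotProduct_add, mul_add]
      smul_left := fun c x z => by rw [dotProduct_smul, smul_eq_mul, mul_left_comm]
      symm := fun x y => by
        simp [chi, dotProduct, Fin.sum_univ_three, hinvol, hDσ]
        ring
      nondeg := fun v hv => by
        have h0 := hv (Pi.single 0 1)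
        have h1 := hv (Pi.single 1 1)
        have h2 := hv (Pi.single 2 1)
        simp [chi, hDK0] at h0 h1 h2
        funext i
        fin_cases i <;> simp [h0, h1, h2] }
  obtain ⟨b, hb⟩ := H.exists_orthonormal
  let b' : Module.Basis (Fin 3) K (Fin 3 → K) := b.reindex (finCongr (Module.finrank_fin_fun K))
  have hb' : ∀ i j, H.h (b' i) (b' j) = if i = j then 1 else 0 := fun i j => by
    simp [b', Module.Basis.reindex_apply, hb]
  let L : (Fin 3 → K) ≃ₗ[K] (Fin 3 → K) := b'.equivFun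
  have hL : ∀ x z, (stdHerm 3 hK2).h (L x) (L z) = H.h x z := fun x z => by
    rw [H.h_eq_sum b' hb' x z]
    show ∑ i, L x i * powConj hK2 (L z i) = _
    exact Finset.sum_congr rfl fun i _ => by rw [hpow]; rfl
  let P : GG := subMap K (linToGL (Fin 3) K L)
  have hP : ∀ x : Fin 3 → K, (P : MM) *ᵥ incl K x = incl K (L x) := fun x => by
    rw [subMap_mulVec, linToGL_mulVec]
  have hev : ∀ i : Fin 3, incl K (ev i) = ev i := fun i => by
    funext l; simp [incl, ev, Pi.single_apply]; split <;> simp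
  -- the functional
  have hfun : ∀ z : Fin 3 → K,
      chi σ D (incl K z) ᵥ* ((P⁻¹ : GG) : MM) = D⁻¹ • incl K (fun i => powConj hK2 (L z i)) := by
    intro z
    have key : (D⁻¹ • incl K (fun i => powConj hK2 (L z i))) ᵥ* (P : MM) = chi σ D (incl K z) := by
      funext i
      have e1 : ((D⁻¹ • incl K (fun i => powConj hK2 (L z i))) ᵥ* (P : MM)) i =
          (D⁻¹ • incl K (fun i => powConj hK2 (L z i))) ⬝ᵥ ((P : MM) *ᵥ incl K (ev i)) := by
        rw [hev, dotProduct_mulVec]
        simp [ev]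
      rw [e1, hP, smul_dotProduct, incl_dot, dotProduct_comm]
      have e2 : L (ev i) ⬝ᵥ (fun i => powConj hK2 (L z i)) = H.h (ev i) z := hL _ z
      rw [e2, smul_eq_mul, ← hchi]
      show D⁻¹ * ((DK * (chi σK DK z ⬝ᵥ ev i) : K) : F) = _
      simp [incl, DK, ev, hD0]
    rw [← key, vecMul_vecMul, ← Units.val_mul, mul_inv_cancel, Units.val_one, vecMul_one]
  -- elations become root elements
  have root : ∀ (z : Fin 3 → K) (s : K) (hv : (stdHerm 3 hK2).h (L z) (L z) = 0)
      (hs : s + (stdHerm 3 hK2).σ s = 0),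
      ((subMap K (unitToGL hK2 ((stdHerm 3 hK2).uT hv hs)) : GG) : MM) =
        1 + vecMulVec ((P : MM) *ᵥ ((((s : F) * D) • incl K z : VV))) (chi σ D (incl K z) ᵥ* ((P⁻¹ : GG) : MM)) := by
    intro z s hv hs
    rw [subMap_val, unit_uT hK2, map_one_vecMulVec, mulVec_smul, hP, hfun, smul_vecMulVec, vecMulVec_smul,
      smul_smul, mul_assoc, mul_inv_cancel₀ hD0, mul_one, ← smul_vecMulVec]
    rfl
  have skew : ∀ s : K, s + (stdHerm 3 hK2).σ s = 0 → (s : F) * D ∈ k := fun s hs => by
    rw [← B.fix, map_mul, hσD]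
    have e : s + σK s = 0 := by rwa [← hpow]
    have e' : (s : F) + σ s = 0 := congrArg Subtype.val e
    linear_combination -D * e'
  have hisod : ∀ z : Fin 3 → K, (stdHerm 3 hK2).h (L z) (L z) = 0 ↔ chi σ D (incl K z) ⬝ᵥ incl K z = 0 := by
    intro z
    rw [hL, ← hchi, incl_dot]
    show DK * (chi σK DK z ⬝ᵥ z) = 0 ↔ _
    rw [mul_eq_zero, or_iff_right hDK0]
    exact ⟨fun h => by rw [h]; rfl, fun h => Subtype.ext h⟩
  set T := (Cfsg.GU 3 K q ⊓ Cfsg.Geo.specialLinear (Fin 3) K).map (subMap K) with hT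
  have hmemT : ∀ g : (stdHerm 3 hK2).SIsom,
      unitToGL hK2 g.1 ∈ Cfsg.GU 3 K q ⊓ Cfsg.Geo.specialLinear (Fin 3) K := fun g =>
    ⟨range_unitToGL hK2 ▸ ⟨g.1, rfl⟩, MonoidHom.mem_ker.2 (by rw [det_unitToGL]; exact g.2)⟩
  refine ⟨P, K, q, hcard, hq3, le_antisymm ?_ ?_⟩
  · rw [conjG, Subgroup.map_le_iff_le_comap, transGen, Subgroup.closure_le]
    rintro g ⟨hg, x, φ, h0, hv⟩
    obtain ⟨v, c, hc, hvK, hiso, hvm⟩ := B.form (⟨h0, g, hg, hv⟩ : Inc G x φ)
    let z : Fin 3 → K := fun i => ⟨v i, (hK _).2 (hvK i)⟩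
    have hz : incl K z = v := rfl
    have hcK : c / D ∈ K := (hK _).2 (by
      rw [map_div₀, map_div₀, (B.fix c).2 hc, (B.fix c).2 hc, hσD, map_neg, hσD, neg_neg])
    have hs : (⟨c / D, hcK⟩ : K) + (stdHerm 3 hK2).σ ⟨c / D, hcK⟩ = 0 := by
      show (⟨c / D, hcK⟩ : K) + powConj hK2 ⟨c / D, hcK⟩ = 0
      rw [hpow]
      refine Subtype.ext ?_
      show c / D + σ (c / D) = 0
      rw [map_div₀, (B.fix c).2 hc, hσD, div_neg, add_neg_cancel]
    have hiso' : (stdHerm 3 hK2).h (L z) (L z) = 0 := (hisod z).2 hiso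
    refine SetLike.mem_coe.2 (Subgroup.mem_comap.2 (Subgroup.mem_map.2
      ⟨_, hmemT ⟨_, (stdHerm 3 hK2).uT_mem_SIsom hiso' hs⟩, Units.ext ?_⟩))
    rw [root z _ hiso' hs]
    show _ = ((P * g * P⁻¹ : GG) : MM)
    rw [Units.val_mul, Units.val_mul, hv, hvm, mul_add, mul_one, add_mul, mul_vecMulVec, vecMulVec_mul,
      ← Units.val_mul, mul_inv_cancel, Units.val_one, hz]
    simp [div_mul_cancel₀ _ hD0, ← hD]
  · -- three full root groups
    set f : (stdHerm 3 hK2).SIsom →* GG :=
      (subMap K).comp ((unitToGL hK2).comp (stdHerm 3 hK2).SIsom.subtype) with hf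
    set S := (conjG P (transGen G)).comap f with hS
    have hcen : ∀ z : Fin 3 → K, chi σ D (incl K z) ⬝ᵥ incl K z = 0 →
        (∀ c ∈ k, Inc G (c • incl K z) (chi σ D (incl K z))) → L z ∈ (stdHerm 3 hK2).uCentres S := by
      intro z hz hI
      refine ⟨(hisod z).2 hz, fun s hs => Subgroup.mem_comap.2 ?_⟩
      obtain ⟨t, ht, htv⟩ := (inc_conjG (P := P) (inc_transGen.2 (hI _ (skew s hs)))).2
      convert ht using 1
      refine Units.ext ?_
      rw [htv, ← root z s ((hisod z).2 hz) hs]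
      rfl
    have hinclev : ∀ (c : F) (i : Fin 3), c • incl K (ev i) = c • ev i := fun c i => by rw [hev]
    have hc0 : L (ev 0) ∈ (stdHerm 3 hK2).uCentres S := by
      refine hcen _ (by rw [hev]; simp [chi, ev]) fun c hc => ?_
      rw [hev, show chi σ D (ev 0) = ev 2 by funext i; fin_cases i <;> simp [chi, ev]]
      exact (B.toCtx.root hc).1
    have hc2 : L (ev 2) ∈ (stdHerm 3 hK2).uCentres S := by
      refine hcen _ (by rw [hev]; simp [chi, ev]) fun c hc => ?_
      rw [hev, show chi σ D (ev 2) = -(ev 0) by funext i; fin_cases i <;> simp [chi, ev]]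
      exact Inc.neg' (B.toCtx.root hc).2
    let wK : Fin 3 → K := ![⟨r, (hK r).2 hrr⟩, 1, 1]
    have hwK : incl K wK = ![r, 1, 1] := by
      funext i; fin_cases i <;> simp [incl, wK]
    have hcw : L wK ∈ (stdHerm 3 hK2).uCentres S := by
      refine hcen _ ?_ fun c hc => ?_
      · rw [hwK]; simp [chi, dotProduct, Fin.sum_univ_three, hD]; ring
      · rw [hwK]; exact (hroot c).2 hc
    have hne : (stdHerm 3 hK2).h (L (ev 0)) (L (ev 2)) ≠ 0 := by
      rw [hL]
      show DK * _ ≠ 0
      simp [chi, ev, hDK0]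
    have hd : Module.finrank K (Fin 3 → K) = 3 := Module.finrank_fin_fun K
    obtain ⟨Fr, hFe, a, ha, hFf⟩ := SUThree.exists_frame_pair hd (HermSpace.uCentres_iso hc0)
      (HermSpace.uCentres_iso hc2) hne
    have hxw : (stdHerm 3 hK2).h (L wK) Fr.w ≠ 0 := fun h0 => by
      have hdec := decomp hd Fr (L wK)
      rw [h0, zero_smul, add_zero, hFe, hFf, ← map_smul, ← map_smul, ← map_smul, ← map_add] at hdec
      have := congrFun (L.injective hdec) 1
      simp [wK, ev] at this
    have htop : S = ⊤ := SUThree.top_of_triangle hd (by rw [stdHerm_q]; exact hq3) Fr (hFe ▸ hc0)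
      (hFf ▸ HermSpace.uCentres_smul hc2 a) hcw hxw
    rintro _ ⟨A, ⟨hA1, hA2⟩, rfl⟩
    obtain ⟨g, rfl⟩ : A ∈ (unitToGL hK2).range := by rwa [range_unitToGL]
    have hg : g ∈ (stdHerm 3 hK2).SIsom := by
      rw [HermSpace.SIsom, MonoidHom.mem_ker, ← det_unitToGL]
      exact hA2
    exact Subgroup.mem_comap.1 (htop ▸ Subgroup.mem_top (⟨g, hg⟩ : (stdHerm 3 hK2).SIsom) :
      (⟨g, hg⟩ : (stdHerm 3 hK2).SIsom) ∈ S)

/-- The transvection subgroup of an irreducible group with a transvection. -/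
theorem elation_recognition (h2 : (2 : F) ≠ 0) (hirr : Irr G) (h : ∃ x φ, x ≠ 0 ∧ φ ≠ 0 ∧ Inc G x φ) :
    (∃ (P : GG) (k : Subfield F),
        conjG P (transGen G) = (Cfsg.Geo.specialLinear (Fin 3) k).map (subMap k)) ∨
      (∃ (P : GG) (K : Subfield F) (q : ℕ), Nat.card K = q ^ 2 ∧ 3 ≤ q ∧
        conjG P (transGen G) = (Cfsg.GU 3 K q ⊓ Cfsg.Geo.specialLinear (Fin 3) K).map (subMap K)) := by
  obtain ⟨x, φ, hx, hφ, hI⟩ := h
  by_cases hM : Many G
  · exact Or.inl (hM.linear h2 hirr)
  refine Or.inr ?_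
  obtain ⟨P, k, σ, r, hσ, B⟩ := exists_base h2 hirr (one2one_of_not_many h2 hirr hM) hx hφ hI
  obtain ⟨Q, K, q, h1, h3, e⟩ := B.unitary hσ
  refine ⟨Q * P, K, q, h1, h3, ?_⟩
  rw [← e, transGen_conjG, conjG, conjG, conjG, Subgroup.map_map]
  congr 1
  ext g
  simp [mul_assoc]

theorem transGen_normal : G ≤ Subgroup.normalizer (transGen G : Set GG) := by
  intro k hk
  have : ∀ k ∈ G, ∀ g ∈ transGen G, k * g * k⁻¹ ∈ transGen G := by
    intro k hk g hg
    have hle : transGen G ≤ (transGen G).comap (MulAut.conj k).toMonoidHom := by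
      refine (Subgroup.closure_le _).2 ?_
      rintro s ⟨hs, x, φ, h0, hv⟩
      obtain ⟨t, ht, htv⟩ := (inc_transGen.2 (Inc.conj (⟨h0, s, hs, hv⟩ : Inc G x φ) hk)).2
      rw [SetLike.mem_coe, Subgroup.mem_comap]
      convert ht using 1
      refine Units.ext ?_
      show ((k * s * k⁻¹ : GG) : MM) = _
      rw [Units.val_mul, Units.val_mul, hv, htv, mul_add, mul_one, add_mul, mul_vecMulVec, vecMulVec_mul,
        ← Units.val_mul, mul_inv_cancel, Units.val_one]
    exact hle hg
  rw [Subgroup.mem_normalizer_iff]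
  refine fun g => ⟨this k hk g, fun h => ?_⟩
  have := this k⁻¹ (G.inv_mem hk) _ h
  simpa [mul_assoc] using this

end Cfsg.Lib.MitchellThree.Elation
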