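import Cfsg.Agent.MitchellThree.Elation.Main

/-!
Normalisers in the three-dimensional general linear group of the special linear and special unitary groups of a
subfield.
-/

set_option autoImplicit false
set_option linter.unusedSectionVars false
set_option linter.unusedSimpArgs false
set_option linter.style.haveILetI false

namespace Cfsg.Lib.MitchellThree.Elation

open Matrix Cfsg.Lib.Classical
open scoped MatrixGroups

universe u

/-- The first diagonal involution. -/
def dA (K : Type u) [Field K] : Matrix (Fin 3) (Fin 3) K := !![-1, 0, 0; 0, -1, 0; 0, 0, 1]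

/-- The second diagonal involution. -/
def dB (K : Type u) [Field K] : Matrix (Fin 3) (Fin 3) K := !![1, 0, 0; 0, -1, 0; 0, 0, -1]

/-- The cyclic permutation. -/
def cyc (K : Type u) [Field K] : Matrix (Fin 3) (Fin 3) K := !![0, 1, 0; 0, 0, 1; 1, 0, 0]

/-- The group contains the monomial elements. -/
structure Mono {K : Type u} [Field K] (S0 : Subgroup (GL (Fin 3) K)) : Prop where
  dA : ∃ g ∈ S0, (g : Matrix (Fin 3) (Fin 3) K) = Elation.dA K
  dB : ∃ g ∈ S0, (g : Matrix (Fin 3) (Fin 3) K) = Elation.dB K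
  cyc : ∃ g ∈ S0, (g : Matrix (Fin 3) (Fin 3) K) = Elation.cyc K

variable {K : Type u} [Field K]

theorem scalar_of_comm (h2 : (2 : K) ≠ 0) {M : Matrix (Fin 3) (Fin 3) K} (hA : dA K * M = M * dA K)
    (hB : dB K * M = M * dB K) (hC : cyc K * M = M * cyc K) : M = M 0 0 • (1 : Matrix (Fin 3) (Fin 3) K) := by
  have z : ∀ x : K, -x = x → x = 0 := fun x e =>
    (mul_eq_zero.1 (show (2 : K) * x = 0 by linear_combination -e)).resolve_left h2
  have z' : ∀ x : K, x = -x → x = 0 := fun x e => z x e.symm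
  have a02 := congrFun (congrFun hA 0) 2
  have a20 := congrFun (congrFun hA 2) 0
  have a12 := congrFun (congrFun hA 1) 2
  have a21 := congrFun (congrFun hA 2) 1
  have b01 := congrFun (congrFun hB 0) 1
  have b10 := congrFun (congrFun hB 1) 0
  have c01 := congrFun (congrFun hC 0) 1
  have c12 := congrFun (congrFun hC 1) 2
  simp [dA, dB, cyc, Matrix.mul_apply, Fin.sum_univ_three] at a02 a20 a12 a21 b01 b10 c01 c12
  have h02 : M 0 2 = 0 := by first | exact z _ a02 | exact z' _ a02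
  have h20 : M 2 0 = 0 := by first | exact z _ a20 | exact z' _ a20
  have h12 : M 1 2 = 0 := by first | exact z _ a12 | exact z' _ a12
  have h21 : M 2 1 = 0 := by first | exact z _ a21 | exact z' _ a21
  have h01 : M 0 1 = 0 := by first | exact z _ b01 | exact z' _ b01
  have h10 : M 1 0 = 0 := by first | exact z _ b10 | exact z' _ b10
  ext i j
  fin_cases i <;> fin_cases j <;> simp [h01, h02, h10, h12, h20, h21, c01, c12]

theorem mono_specialLinear : Mono (Cfsg.Geo.specialLinear (Fin 3) K) := by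
  have key : ∀ M : Matrix (Fin 3) (Fin 3) K, M.det = 1 →
      ∃ g ∈ Cfsg.Geo.specialLinear (Fin 3) K, (g : Matrix (Fin 3) (Fin 3) K) = M := fun M hM =>
    ⟨Matrix.GeneralLinearGroup.mkOfDetNeZero M (by rw [hM]; exact one_ne_zero),
      MonoidHom.mem_ker.2 (Units.ext (by rw [Matrix.GeneralLinearGroup.val_det_apply]; exact hM)), rfl⟩
  exact ⟨key _ (by simp [dA, det_fin_three]), key _ (by simp [dB, det_fin_three]),
    key _ (by simp [cyc, det_fin_three])⟩

theorem mono_unitary [Fintype K] {q : ℕ} (hK : Fintype.card K = q ^ 2) :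
    Mono (Cfsg.GU 3 K q ⊓ Cfsg.Geo.specialLinear (Fin 3) K) := by
  have key : ∀ M : Matrix (Fin 3) (Fin 3) K, M.det = 1 →
      (∀ u v, (stdHerm 3 hK).h (M *ᵥ u) (M *ᵥ v) = (stdHerm 3 hK).h u v) →
      ∃ g ∈ Cfsg.GU 3 K q ⊓ Cfsg.Geo.specialLinear (Fin 3) K, (g : Matrix (Fin 3) (Fin 3) K) = M :=
    fun M hM hu =>
    ⟨Matrix.GeneralLinearGroup.mkOfDetNeZero M (by rw [hM]; exact one_ne_zero),
      ⟨fun u v => by rw [← stdHerm_h hK, ← stdHerm_h hK]; exact hu u v,
        MonoidHom.mem_ker.2 (Units.ext (by rw [Matrix.GeneralLinearGroup.val_det_apply]; exact hM))⟩, rfl⟩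
  have hh : ∀ u v, (stdHerm 3 hK).h u v = ∑ i, u i * powConj hK (v i) := fun u v => rfl
  refine ⟨key _ (by simp [dA, det_fin_three]) fun u v => ?_, key _ (by simp [dB, det_fin_three]) fun u v => ?_,
    key _ (by simp [cyc, det_fin_three]) fun u v => ?_⟩
  · simp [hh, dA, Matrix.mulVec, dotProduct, Fin.sum_univ_three]
  · simp [hh, dB, Matrix.mulVec, dotProduct, Fin.sum_univ_three]
  · simp [hh, cyc, Matrix.mulVec, dotProduct, Fin.sum_univ_three]
    ring

variable {F : Type u} [Field F]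

/-- An element normalising a monomial group over a subfield is a scalar times a matrix over the subfield. -/
theorem rational_of_normalising (h2 : (2 : F) ≠ 0) {K : Subfield F} {S0 : Subgroup (GL (Fin 3) K)} (hM : Mono S0)
    {g : GL (Fin 3) F} (hg : ∀ s ∈ S0, g * subMap K s * g⁻¹ ∈ S0.map (subMap K)) :
    ∃ (μ : F) (g0 : GL (Fin 3) K), μ ≠ 0 ∧
      (g : Matrix (Fin 3) (Fin 3) F) = μ • ((subMap K g0 : GL (Fin 3) F) : Matrix (Fin 3) (Fin 3) F) := by
  classical
  set g' : Matrix (Fin 3) (Fin 3) F := ((g⁻¹ : GL (Fin 3) F) : Matrix (Fin 3) (Fin 3) F) with hg'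
  let R : Subalgebra K (Matrix (Fin 3) (Fin 3) K) :=
    { carrier := {X | ∀ a b, ((g : Matrix (Fin 3) (Fin 3) F) * X.map K.subtype * g') a b ∈ K}
      mul_mem' := fun {X Y} hX hY a b => by
        have e : (g : Matrix (Fin 3) (Fin 3) F) * (X * Y).map K.subtype * g' =
            ((g : Matrix (Fin 3) (Fin 3) F) * X.map K.subtype * g') *
              ((g : Matrix (Fin 3) (Fin 3) F) * Y.map K.subtype * g') := by
          rw [Matrix.map_mul]
          simp only [← Matrix.mul_assoc]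
          congr 2
          rw [Matrix.mul_assoc ((g : Matrix (Fin 3) (Fin 3) F) * X.map K.subtype) g', hg', ← Units.val_mul,
            inv_mul_cancel, Units.val_one, Matrix.mul_one]
        rw [e, Matrix.mul_apply]
        exact K.sum_mem fun c _ => K.mul_mem (hX a c) (hY c b)
      one_mem' := fun a b => by
        rw [Matrix.map_one _ (map_zero _) (map_one _), Matrix.mul_one, hg', ← Units.val_mul, mul_inv_cancel,
          Units.val_one, Matrix.one_apply]
        split
        · exact K.one_mem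
        · exact K.zero_mem
      add_mem' := fun {X Y} hX hY a b => by
        rw [Matrix.map_add _ (map_add _), Matrix.mul_add, Matrix.add_mul, Matrix.add_apply]
        exact K.add_mem (hX a b) (hY a b)
      zero_mem' := fun a b => by
        rw [Matrix.map_zero _ (map_zero _), Matrix.mul_zero, Matrix.zero_mul]
        exact K.zero_mem
      algebraMap_mem' := fun c a b => by
        have e : (algebraMap K (Matrix (Fin 3) (Fin 3) K) c).map K.subtype = (c : F) • (1 : Matrix (Fin 3) (Fin 3) F) := by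
          ext i j
          by_cases h : i = j <;> simp [Matrix.algebraMap_matrix_apply, Matrix.one_apply, h]
        rw [e, Matrix.mul_smul, Matrix.mul_one, Matrix.smul_mul, hg', ← Units.val_mul, mul_inv_cancel,
          Units.val_one, Matrix.smul_apply, Matrix.one_apply]
        split
        · simpa using c.2
        · simp [K.zero_mem] }
  have hS : ∀ s ∈ S0, (s : Matrix (Fin 3) (Fin 3) K) ∈ R := fun s hs a b => by
    obtain ⟨s', -, e⟩ := hg s hs
    have e' := congrArg (fun x : GL (Fin 3) F => (x : Matrix (Fin 3) (Fin 3) F) a b) e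
    simp only [Units.val_mul, subMap_val] at e'
    rw [hg', ← e']
    exact (((s' : Matrix (Fin 3) (Fin 3) K) a b)).2
  obtain ⟨sA, hsA, eA⟩ := hM.dA
  obtain ⟨sB, hsB, eB⟩ := hM.dB
  obtain ⟨sC, hsC, eC⟩ := hM.cyc
  have hA : dA K ∈ R := eA ▸ hS _ hsA
  have hB : dB K ∈ R := eB ▸ hS _ hsB
  have hC : cyc K ∈ R := eC ▸ hS _ hsC
  have h2K : (2 : K) ≠ 0 := fun e => h2 (by
    have := congrArg K.subtype e; rwa [map_ofNat, map_zero] at this)
  have d00 : Matrix.single (0 : Fin 3) (0 : Fin 3) (1 : K) ∈ R := by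
    have e : (2 : K) • Matrix.single (0 : Fin 3) (0 : Fin 3) (1 : K) = 1 + dB K := by
      refine Matrix.ext fun i j => ?_
      fin_cases i <;> fin_cases j <;> simp [dB, Matrix.one_apply]
      all_goals norm_num
    rw [← inv_smul_smul₀ h2K (Matrix.single (0 : Fin 3) (0 : Fin 3) (1 : K)), e]
    exact R.smul_mem (R.add_mem R.one_mem hB) _
  have d22 : Matrix.single (2 : Fin 3) (2 : Fin 3) (1 : K) ∈ R := by
    have e : (2 : K) • Matrix.single (2 : Fin 3) (2 : Fin 3) (1 : K) = 1 + dA K := by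
      refine Matrix.ext fun i j => ?_
      fin_cases i <;> fin_cases j <;> simp [dA, Matrix.one_apply]
      all_goals norm_num
    rw [← inv_smul_smul₀ h2K (Matrix.single (2 : Fin 3) (2 : Fin 3) (1 : K)), e]
    exact R.smul_mem (R.add_mem R.one_mem hA) _
  have d11 : Matrix.single (1 : Fin 3) (1 : Fin 3) (1 : K) ∈ R := by
    have e : Matrix.single (1 : Fin 3) (1 : Fin 3) (1 : K) =
        1 - Matrix.single 0 0 1 - Matrix.single 2 2 1 := by
      refine Matrix.ext fun i j => ?_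
      fin_cases i <;> fin_cases j <;> simp [Matrix.one_apply]
    rw [e]; exact R.sub_mem (R.sub_mem R.one_mem d00) d22
  have hcyc : ∀ a b : Fin 3, cyc K a b = if b = a + 1 then 1 else 0 := fun a b => by
    fin_cases a <;> fin_cases b <;> simp [cyc]
  have hstep : ∀ i j : Fin 3, Matrix.single i j (1 : K) * cyc K = Matrix.single i (j + 1) 1 := fun i j => by
    refine Matrix.ext fun a b => ?_
    rcases eq_or_ne a i with rfl | ha
    · rw [Matrix.single_mul_apply_same, one_mul, hcyc, Matrix.single_apply]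
      simp [eq_comm]
    · rw [Matrix.single_mul_apply_of_ne _ _ _ _ _ ha, Matrix.single_apply]
      simp [Ne.symm ha]
  have hsingle : ∀ i j : Fin 3, Matrix.single i j (1 : K) ∈ R := by
    intro i j
    have h0 : Matrix.single i i (1 : K) ∈ R := by
      fin_cases i
      · exact d00
      · exact d11
      · exact d22
    have h1 : Matrix.single i (i + 1) (1 : K) ∈ R := hstep i i ▸ R.mul_mem h0 hC
    have h2 : Matrix.single i (i + 1 + 1) (1 : K) ∈ R := hstep i (i + 1) ▸ R.mul_mem h1 hC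
    rcases (by decide : ∀ i j : Fin 3, j = i ∨ j = i + 1 ∨ j = i + 1 + 1) i j with rfl | rfl | rfl
    · exact h0
    · exact h1
    · exact h2
  have hprod : ∀ a b i j : Fin 3, (g : Matrix (Fin 3) (Fin 3) F) a i * g' j b ∈ K := fun a b i j => by
    have h : ((g : Matrix (Fin 3) (Fin 3) F) * (Matrix.single i j (1 : K)).map K.subtype * g') a b ∈ K :=
      hsingle i j a b
    simp only [Matrix.mul_apply, Fin.sum_univ_three, Matrix.map_apply, Matrix.single_apply] at h
    fin_cases i <;> fin_cases j <;> simpa using h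
  have hrow : ∀ N : GL (Fin 3) F, ∀ i : Fin 3, ∃ j, (N : Matrix (Fin 3) (Fin 3) F) i j ≠ 0 := fun N i => by
    by_contra hc
    push Not at hc
    have hd : (N : Matrix (Fin 3) (Fin 3) F).det = 0 := Matrix.det_eq_zero_of_row_eq_zero i hc
    exact Matrix.GeneralLinearGroup.det_ne_zero N hd
  obtain ⟨i0, hi0⟩ := hrow g 0
  obtain ⟨b, hb⟩ := hrow g⁻¹ 0
  rw [← hg'] at hb
  set μ := (g : Matrix (Fin 3) (Fin 3) F) 0 i0 with hμ
  have hrat : ∀ a i, (g : Matrix (Fin 3) (Fin 3) F) a i / μ ∈ K := fun a i => by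
    rw [← mul_div_mul_right _ _ hb]
    exact K.div_mem (hprod a b i 0) (hprod 0 b i0 0)
  let M0 : Matrix (Fin 3) (Fin 3) K := Matrix.of fun a i => ⟨_, hrat a i⟩
  have hgM : (g : Matrix (Fin 3) (Fin 3) F) = μ • M0.map K.subtype := by
    ext a i; simp [M0, mul_div_cancel₀ _ hi0]
  have hd : M0.det ≠ 0 := fun e => Matrix.GeneralLinearGroup.det_ne_zero g (by
    have h0 : (M0.map K.subtype).det = 0 := by
      rw [← RingHom.mapMatrix_apply, ← RingHom.map_det, e, map_zero]
    rw [hgM, Matrix.det_smul, h0, mul_zero])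
  exact ⟨μ, Matrix.GeneralLinearGroup.mkOfDetNeZero M0 hd, hi0, hgM⟩

/-- An element normalising the special unitary group is a scalar times a unitary matrix. -/
theorem unitary_of_normalising [Fintype K] (h2 : (2 : K) ≠ 0) {q : ℕ} (hK : Fintype.card K = q ^ 2)
    {g : GL (Fin 3) K}
    (hg : ∀ s ∈ Cfsg.GU 3 K q ⊓ Cfsg.Geo.specialLinear (Fin 3) K,
      g * s * g⁻¹ ∈ Cfsg.GU 3 K q ⊓ Cfsg.Geo.specialLinear (Fin 3) K) :
    ∃ c : K, c ≠ 0 ∧ ∃ u ∈ Cfsg.GU 3 K q,
      (g : Matrix (Fin 3) (Fin 3) K) = c • (u : Matrix (Fin 3) (Fin 3) K) := by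
  classical
  set H := stdHerm 3 hK with hH
  set G : Matrix (Fin 3) (Fin 3) K := (g : Matrix (Fin 3) (Fin 3) K) with hG
  have hinv : ∀ {s : Matrix (Fin 3) (Fin 3) K}, (∃ t ∈ Cfsg.GU 3 K q ⊓ Cfsg.Geo.specialLinear (Fin 3) K,
      (t : Matrix (Fin 3) (Fin 3) K) = s) → ∀ u v, H.h (G *ᵥ (s *ᵥ u)) (G *ᵥ (s *ᵥ v)) = H.h (G *ᵥ u) (G *ᵥ v) := by
    rintro s ⟨t, ht, rfl⟩ u v
    have h1 := (hg t ht).1 (G *ᵥ u) (G *ᵥ v)
    rw [← stdHerm_h hK, ← stdHerm_h hK] at h1
    have e : ∀ w, ((g * t * g⁻¹ : GL (Fin 3) K) : Matrix (Fin 3) (Fin 3) K) *ᵥ (G *ᵥ w) =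
        G *ᵥ ((t : Matrix (Fin 3) (Fin 3) K) *ᵥ w) := fun w => by
      rw [hG, mulVec_mulVec, mulVec_mulVec, ← Units.val_mul, ← Units.val_mul, inv_mul_cancel_right]
    change H.h (((g * t * g⁻¹ : GL (Fin 3) K) : Matrix (Fin 3) (Fin 3) K) *ᵥ (G *ᵥ u))
      (((g * t * g⁻¹ : GL (Fin 3) K) : Matrix (Fin 3) (Fin 3) K) *ᵥ (G *ᵥ v)) = _ at h1
    rwa [e, e] at h1
  have hm := mono_unitary hK
  let e : Fin 3 → Fin 3 → K := fun i j => H.h (G *ᵥ Pi.single i 1) (G *ᵥ Pi.single j 1)
  have z : ∀ x : K, -x = x → x = 0 := fun x hx =>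
    (mul_eq_zero.1 (show (2 : K) * x = 0 by linear_combination -hx)).resolve_left h2
  have a0 : dA K *ᵥ Pi.single 0 1 = -Pi.single 0 1 := by funext l; fin_cases l <;> simp [dA]
  have a1 : dA K *ᵥ Pi.single 1 1 = -Pi.single 1 1 := by funext l; fin_cases l <;> simp [dA]
  have a2 : dA K *ᵥ Pi.single 2 1 = Pi.single 2 1 := by funext l; fin_cases l <;> simp [dA]
  have b0 : dB K *ᵥ Pi.single 0 1 = Pi.single 0 1 := by funext l; fin_cases l <;> simp [dB]
  have b1 : dB K *ᵥ Pi.single 1 1 = -Pi.single 1 1 := by funext l; fin_cases l <;> simp [dB]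
  have c1 : cyc K *ᵥ Pi.single 1 1 = Pi.single 0 1 := by funext l; fin_cases l <;> simp [cyc]
  have c2 : cyc K *ᵥ Pi.single 2 1 = Pi.single 1 1 := by funext l; fin_cases l <;> simp [cyc]
  have h02 : e 0 2 = 0 := z _ (by
    have h := hinv hm.dA (Pi.single 0 1) (Pi.single 2 1)
    rwa [a0, a2, mulVec_neg, H.neg_left] at h)
  have h12 : e 1 2 = 0 := z _ (by
    have h := hinv hm.dA (Pi.single 1 1) (Pi.single 2 1)
    rwa [a1, a2, mulVec_neg, H.neg_left] at h)
  have h01 : e 0 1 = 0 := z _ (by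
    have h := hinv hm.dB (Pi.single 0 1) (Pi.single 1 1)
    rwa [b0, b1, mulVec_neg, H.neg_right] at h)
  have h20 : e 2 0 = 0 := H.eq_zero_symm h02
  have h21 : e 2 1 = 0 := H.eq_zero_symm h12
  have h10 : e 1 0 = 0 := H.eq_zero_symm h01
  have h11 : e 1 1 = e 0 0 := by
    have h := hinv hm.cyc (Pi.single 1 1) (Pi.single 1 1)
    rw [c1] at h
    exact h.symm
  have h22 : e 2 2 = e 0 0 := by
    have h := hinv hm.cyc (Pi.single 2 1) (Pi.single 2 1)
    rw [c2] at h
    rw [← h11]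
    exact h.symm
  have hprop : ∀ u v, H.h (G *ᵥ u) (G *ᵥ v) = e 0 0 * H.h u v := by
    intro u v
    have hu : ∀ w : Fin 3 → K, G *ᵥ w = ∑ i, w i • (G *ᵥ Pi.single i 1) := fun w => by
      funext a
      simp [Matrix.mulVec, dotProduct, Fin.sum_univ_three, mul_comm]
    rw [hu u, hu v, H.sum_left]
    simp only [H.smul_left, H.sum_right, H.smul_right, Fin.sum_univ_three, H.add_right]
    change u 0 * (H.σ (v 0) * e 0 0 + H.σ (v 1) * e 0 1 + H.σ (v 2) * e 0 2) +
      u 1 * (H.σ (v 0) * e 1 0 + H.σ (v 1) * e 1 1 + H.σ (v 2) * e 1 2) +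
      u 2 * (H.σ (v 0) * e 2 0 + H.σ (v 1) * e 2 1 + H.σ (v 2) * e 2 2) = _
    rw [h01, h02, h10, h12, h20, h21, h11, h22, show H.h u v = ∑ i, u i * H.σ (v i) from rfl, Fin.sum_univ_three]
    ring
  have hne : e 0 0 ≠ 0 := fun he => by
    have h0 : G *ᵥ Pi.single 0 1 = 0 := H.nondeg _ fun x => by
      have hx := hprop (((g⁻¹ : GL (Fin 3) K) : Matrix (Fin 3) (Fin 3) K) *ᵥ x) (Pi.single 0 1)
      rw [he, zero_mul, hG, mulVec_mulVec, ← Units.val_mul, mul_inv_cancel, Units.val_one, one_mulVec, ← hG] at hx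
      exact hx
    exact LinOne.GL_ne_zero_mulVec g (fun e' => one_ne_zero (α := K) (by simpa using congrFun e' 0)) h0
  obtain ⟨c, hc⟩ := H.conj.norm_surjective (a := e 0 0) (H.self_fixed _)
  have hc0 : c ≠ 0 := fun h => hne (by rw [← hc, h, zero_mul])
  have hd : (c⁻¹ • G).det ≠ 0 := by
    rw [Matrix.det_smul]
    exact mul_ne_zero (pow_ne_zero _ (inv_ne_zero hc0)) (Matrix.GeneralLinearGroup.det_ne_zero g)
  refine ⟨c, hc0, Matrix.GeneralLinearGroup.mkOfDetNeZero _ hd, fun u v => ?_, ?_⟩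
  · rw [← stdHerm_h hK, ← stdHerm_h hK]
    show H.h ((c⁻¹ • G) *ᵥ u) ((c⁻¹ • G) *ᵥ v) = H.h u v
    rw [smul_mulVec, smul_mulVec, H.smul_left, H.smul_right, hprop, map_inv₀, ← hc]
    have hσc : H.σ c ≠ 0 := (map_ne_zero _).2 hc0
    field_simp
  · show G = c • (c⁻¹ • G)
    rw [smul_inv_smul₀ hc0]

end Cfsg.Lib.MitchellThree.Elation
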