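import Cfsg.Agent.MitchellThree.Torus
import Cfsg.Agent.MitchellThree.Elation.Main
import Cfsg.Agent.MitchellThree.Elation.Irred
import Cfsg.Agent.MitchellThree.Elation.Normaliser
import Cfsg.Agent.UFourThreeCover.Field
import Cfsg.Prelude.Def_CaseTheorems

/-!
Subgroups of the three-dimensional projective special linear group whose socle contains an elation.
-/

set_option autoImplicit false
set_option linter.unusedSectionVars false
set_option linter.unusedSimpArgs false
set_option linter.style.haveILetI false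

namespace Cfsg.Lib.MitchellThree

open Matrix Cfsg.Geo Cfsg.Lib.Classical Cfsg.Lib.Classical.LinOne Cfsg.Lib.MitchellThree.Elation
open scoped MatrixGroups

universe u v

/-- The linear and unitary outcomes. -/
def Big (p α : ℕ) (H : Type v) [Group H] : Prop :=
  (∃ (K : Type) (_ : Field K) (_ : Fintype K) (β : ℕ), Fintype.card K = p ^ β ∧ β ∣ α ∧
      Nonempty (H ≃* Matrix.ProjectiveSpecialLinearGroup (Fin 3) K)) ∨
    (∃ (K : Type) (_ : Field K) (_ : Fintype K) (β : ℕ), Fintype.card K = p ^ (2 * β) ∧ 2 * β ∣ α ∧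
      Nonempty (H ≃* Cfsg.PSU 3 K (p ^ β))) ∨
    (∃ (K : Type) (_ : Field K) (_ : Fintype K) (β : ℕ), Fintype.card K = p ^ β ∧ 3 ∣ p ^ β - 1 ∧ 3 * β ∣ α ∧
      ∃ L : Subgroup H, L.index = 3 ∧ Nonempty (↥L ≃* Matrix.ProjectiveSpecialLinearGroup (Fin 3) K)) ∨
    (∃ (K : Type) (_ : Field K) (_ : Fintype K) (β : ℕ), Fintype.card K = p ^ (2 * β) ∧ 3 ∣ p ^ β + 1 ∧ 6 * β ∣ α ∧
      ∃ L : Subgroup H, L.index = 3 ∧ Nonempty (↥L ≃* Cfsg.PSU 3 K (p ^ β)))

variable {F : Type u} [Field F]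

local notation "MM" => Matrix (Fin 3) (Fin 3) F
local notation "GG" => GL (Fin 3) F
local notation "mkF" => QuotientGroup.mk' (scalars (Fin 3) F)

theorem mem_scalars_iff_isScalar {g : GG} : g ∈ scalars (Fin 3) F ↔ IsScalar g := by
  rw [mem_scalars_iff]
  refine ⟨fun ⟨c, hc⟩ => ⟨c, hc⟩, fun ⟨c, hc⟩ => ?_⟩
  have hc0 : c ≠ 0 := fun e => g.ne_zero (by rw [hc, e, zero_smul])
  exact ⟨Units.mk0 c hc0, hc⟩

theorem mk_eq_one_iff {g : GG} : mkF g = 1 ↔ IsScalar g := by
  rw [QuotientGroup.mk'_apply, QuotientGroup.eq_one_iff]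
  exact mem_scalars_iff_isScalar

theorem exists_smul_of_mk_eq {g g' : GG} (h : mkF g = mkF g') : ∃ c : F, c ≠ 0 ∧ (g : MM) = c • (g' : MM) := by
  obtain ⟨c, hc⟩ := mk_eq_one_iff.1 (show mkF (g * g'⁻¹) = 1 by rw [map_mul, map_inv, h, mul_inv_cancel])
  refine ⟨c, fun e => (g * g'⁻¹).ne_zero (by rw [hc, e, zero_smul]), ?_⟩
  calc (g : MM) = ((g * g'⁻¹ : GG) : MM) * (g' : MM) := by rw [← Units.val_mul, inv_mul_cancel_right]
    _ = c • (g' : MM) := by rw [hc, Matrix.smul_mul, Matrix.one_mul]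

theorem mk_eq_of_smul {g g' : GG} {c : F} (h : (g : MM) = c • (g' : MM)) : mkF g = mkF g' := by
  rw [← mul_inv_eq_one, ← map_inv, ← map_mul, mk_eq_one_iff]
  exact ⟨c, by rw [Units.val_mul, h, Matrix.smul_mul, ← Units.val_mul, mul_inv_cancel, Units.val_one]⟩

theorem det_subMap (K : Subfield F) (g : GL (Fin 3) K) :
    ((subMap K g : GG) : MM).det = (((g : Matrix (Fin 3) (Fin 3) K).det : K) : F) := by
  rw [subMap_val]
  exact (RingHom.map_det K.subtype _).symm

theorem subMap_injective (K : Subfield F) : Function.Injective (subMap K) := fun a b h =>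
  Units.ext (Matrix.map_injective K.subtype.injective (congrArg Units.val h))

theorem coeff_mem (K : Subfield F) {a b : GL (Fin 3) K} {μ : F}
    (h : ((subMap K a : GG) : MM) = μ • ((subMap K b : GG) : MM)) : μ ∈ K := by
  obtain ⟨j, hj⟩ : ∃ j, (b : Matrix (Fin 3) (Fin 3) K) 0 j ≠ 0 := by
    by_contra hc
    push Not at hc
    exact Matrix.GeneralLinearGroup.det_ne_zero b (Matrix.det_eq_zero_of_row_eq_zero 0 hc)
  have e := congrFun (congrFun h 0) j
  simp only [subMap_val, Matrix.map_apply, Matrix.smul_apply, smul_eq_mul, Subfield.coe_subtype] at e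
  have hj' : (((b : Matrix (Fin 3) (Fin 3) K) 0 j : K) : F) ≠ 0 := fun e' => hj (Subtype.ext e')
  rw [show μ = (((a : Matrix (Fin 3) (Fin 3) K) 0 j : K) : F) / (((b : Matrix (Fin 3) (Fin 3) K) 0 j : K) : F) by
    rw [e, mul_div_cancel_right₀ _ hj']]
  exact K.div_mem (Subtype.prop _) (Subtype.prop _)

theorem center_iff_scalar {K : Subfield F} (h2 : (2 : F) ≠ 0) {S0 : Subgroup (GL (Fin 3) K)} (hM : Mono S0)
    {s : GL (Fin 3) K} :
    (∀ t ∈ S0, t * s = s * t) ↔ IsScalar (subMap K s) := by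
  have h2K : (2 : K) ≠ 0 := fun e => h2 (by
    have := congrArg K.subtype e; rwa [map_ofNat, map_zero] at this)
  refine ⟨fun h => ?_, fun ⟨c, hc⟩ t _ => subMap_injective K ?_⟩
  · obtain ⟨a, ha, ea⟩ := hM.dA
    obtain ⟨b, hb, eb⟩ := hM.dB
    obtain ⟨x, hx, ex⟩ := hM.cyc
    have e := scalar_of_comm h2K (M := (s : Matrix (Fin 3) (Fin 3) K))
      (by rw [← ea, ← Units.val_mul, ← Units.val_mul, h a ha])
      (by rw [← eb, ← Units.val_mul, ← Units.val_mul, h b hb])
      (by rw [← ex, ← Units.val_mul, ← Units.val_mul, h x hx])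
    refine ⟨(((s : Matrix (Fin 3) (Fin 3) K) 0 0 : K) : F), ?_⟩
    rw [subMap_val]
    conv_lhs => rw [e]
    ext i j
    by_cases hij : i = j <;> simp [Matrix.one_apply, hij]
  · rw [map_mul, map_mul]
    refine Units.ext ?_
    rw [Units.val_mul, Units.val_mul, hc, Matrix.smul_mul, Matrix.mul_smul, Matrix.one_mul, Matrix.mul_one]

section layer

variable [Finite F] {H : Type v} [Group H]

/-- A socle with image the scalar classes of `S0` has index one or three. -/
theorem layer {K : Subfield F} {N0 S0 : Subgroup (GL (Fin 3) K)} (hSN : S0 ≤ N0)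
    (hS1 : ∀ s ∈ S0, (s : Matrix (Fin 3) (Fin 3) K).det = 1) (ι : H →* PG F) (hι : Function.Injective ι)
    (L : Subgroup H) (hL : L.map ι = (S0.map (subMap K)).map mkF)
    (hH : ∀ h, ∃ g0 ∈ N0, mkF (subMap K g0) = ι h)
    (hcube : ∀ g0 ∈ N0, (∃ x : K, x ^ 3 = (g0 : Matrix (Fin 3) (Fin 3) K).det) →
      ∃ s ∈ S0, ∃ c : K, (g0 : Matrix (Fin 3) (Fin 3) K) = c • (s : Matrix (Fin 3) (Fin 3) K)) :
    L = ⊤ ∨ (L.index = 3 ∧ ∃ g0 ∈ N0, (∃ h, mkF (subMap K g0) = ι h) ∧
      ∀ x : K, x ^ 3 ≠ (g0 : Matrix (Fin 3) (Fin 3) K).det) := by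
  classical
  haveI : Finite K := inferInstance
  let ψ : N0 →* PG F := (mkF).comp ((subMap K).comp N0.subtype)
  let P0 : Subgroup N0 := ι.range.comap ψ
  let Φ : P0 →* H := (MonoidHom.ofInjective hι).symm.toMonoidHom.comp
    ((ψ.comp P0.subtype).codRestrict ι.range fun x => x.2)
  have hΦ : ∀ x : P0, ι (Φ x) = ψ x.1 := fun x =>
    congrArg Subtype.val ((MonoidHom.ofInjective hι).apply_symm_apply ⟨ψ x.1, x.2⟩)
  have hΦs : Function.Surjective Φ := fun h => by
    obtain ⟨g0, hg0, e⟩ := hH h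
    exact ⟨⟨⟨g0, hg0⟩, ⟨h, e.symm⟩⟩, hι ((hΦ _).trans e)⟩
  let cubes : Subgroup Kˣ := (powMonoidHom 3 : Kˣ →* Kˣ).range
  let χ : P0 →* Kˣ ⧸ cubes := (QuotientGroup.mk' cubes).comp
    ((Matrix.GeneralLinearGroup.det).comp (N0.subtype.comp P0.subtype))
  have hcubes : ∀ x : P0, χ x = 1 ↔ ∃ c : K, c ^ 3 = ((x.1.1 : GL (Fin 3) K) : Matrix (Fin 3) (Fin 3) K).det := by
    intro x
    show QuotientGroup.mk' cubes _ = 1 ↔ _
    rw [QuotientGroup.mk'_apply, QuotientGroup.eq_one_iff, MonoidHom.mem_range]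
    constructor
    · rintro ⟨c, hc⟩
      refine ⟨c, ?_⟩
      have := congrArg Units.val hc
      simpa using this
    · rintro ⟨c, hc⟩
      have hc0 : c ≠ 0 := fun e => Matrix.GeneralLinearGroup.det_ne_zero x.1.1 (by
        rw [← hc, e, zero_pow (by norm_num)])
      exact ⟨Units.mk0 c hc0, Units.ext (by simpa using hc)⟩
  have hker : χ.ker = L.comap Φ := by
    ext x
    rw [MonoidHom.mem_ker, hcubes, Subgroup.mem_comap, ← Subgroup.mem_map_iff_mem hι, hΦ, hL]
    constructor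
    · intro hc
      obtain ⟨s, hs, c, e⟩ := hcube _ x.1.2 hc
      refine ⟨subMap K s, ⟨s, hs, rfl⟩, (mk_eq_of_smul (c := (c : F)) ?_).symm⟩
      show ((subMap K x.1.1 : GG) : MM) = _
      rw [subMap_val, subMap_val, e]
      ext i j; simp
    · rintro ⟨_, ⟨s, hs, rfl⟩, e⟩
      obtain ⟨μ, -, hμ⟩ := exists_smul_of_mk_eq e.symm
      refine ⟨⟨μ, coeff_mem K hμ⟩, Subtype.ext ?_⟩
      have := congrArg Matrix.det hμ
      rw [Matrix.det_smul, det_subMap] at this
      erw [det_subMap] at this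
      rw [hS1 s hs] at this
      simpa using this.symm
  have hidx : L.index ∣ 3 := by
    rw [← Subgroup.index_comap_of_surjective L hΦs, ← hker, Subgroup.index_ker]
    refine χ.range.card_subgroup_dvd_card.trans ?_
    show cubes.index ∣ 3
    rw [IsCyclic.index_powMonoidHom_range]
    exact Nat.gcd_dvd_right _ _
  rcases (Nat.dvd_prime Nat.prime_three).1 hidx with e | e
  · exact Or.inl (Subgroup.index_eq_one.1 e)
  · obtain ⟨h, hh⟩ : ∃ h, h ∉ L := by
      by_contra hc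
      push Not at hc
      rw [(Subgroup.eq_top_iff' L).2 hc, Subgroup.index_top] at e
      omega
    obtain ⟨x, rfl⟩ := hΦs h
    refine Or.inr ⟨e, x.1.1, x.1.2, ⟨Φ x, (hΦ x).symm⟩, fun c hc => hh ?_⟩
    have : x ∈ χ.ker := MonoidHom.mem_ker.2 ((hcubes x).2 ⟨c, hc⟩)
    rwa [hker] at this

end layer

theorem psl_three_congr {K : Type u} [Field K] {K' : Type} [Field K'] (e : K ≃+* K') :
    Nonempty (Matrix.ProjectiveSpecialLinearGroup (Fin 3) K ≃* Matrix.ProjectiveSpecialLinearGroup (Fin 3) K') := by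
  let f : SL(3, K) ≃* SL(3, K') :=
    { toFun := Matrix.SpecialLinearGroup.map e.toRingHom
      invFun := Matrix.SpecialLinearGroup.map e.symm.toRingHom
      left_inv := fun m => Subtype.ext (Matrix.ext fun i j => e.symm_apply_apply _)
      right_inv := fun m => Subtype.ext (Matrix.ext fun i j => e.apply_symm_apply _)
      map_mul' := map_mul _ }
  refine ⟨QuotientGroup.congr _ _ f ?_⟩
  ext x
  rw [Subgroup.mem_map, Subgroup.mem_center_iff]
  refine ⟨?_, fun hx => ⟨f.symm x, Subgroup.mem_center_iff.2 fun g => f.injective ?_, f.apply_symm_apply x⟩⟩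
  · rintro ⟨y, hy, rfl⟩ g
    obtain ⟨g, rfl⟩ := f.surjective g
    show f g * f y = f y * f g
    rw [← map_mul, ← map_mul, Subgroup.mem_center_iff.1 hy g]
  · rw [map_mul, map_mul, f.apply_symm_apply]; exact hx _

theorem quotient_equiv {A : Type u} [Group A] {H : Type v} [Group H] (φ : A →* PG F) (hker : φ.ker = Subgroup.center A)
    (ι : H →* PG F) (hι : Function.Injective ι) (L : Subgroup H) (hL : L.map ι = φ.range) :
    Nonempty (L ≃* A ⧸ Subgroup.center A) :=
  ⟨(Subgroup.equivMapOfInjective L ι hι).trans ((MulEquiv.subgroupCongr hL).trans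
    ((QuotientGroup.quotientKerEquivRange φ).symm.trans (QuotientGroup.quotientMulEquivOfEq hker)))⟩

theorem psl_image {K : Subfield F} (h2 : (2 : F) ≠ 0) {H : Type v} [Group H] (ι : H →* PG F)
    (hι : Function.Injective ι) (L : Subgroup H)
    (hL : L.map ι = ((specialLinear (Fin 3) K).map (subMap K)).map mkF) :
    Nonempty (L ≃* Matrix.ProjectiveSpecialLinearGroup (Fin 3) K) := by
  let φ : SL(3, K) →* PG F := (mkF).comp ((subMap K).comp Matrix.SpecialLinearGroup.toGL)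
  have hrange : (Matrix.SpecialLinearGroup.toGL : SL(3, K) →* GL (Fin 3) K).range = specialLinear (Fin 3) K := by
    ext g
    constructor
    · rintro ⟨s, rfl⟩
      exact MonoidHom.mem_ker.2 (Units.ext (by rw [Matrix.GeneralLinearGroup.val_det_apply]; exact s.2))
    · intro hg
      refine ⟨⟨(g : Matrix (Fin 3) (Fin 3) K), ?_⟩, Units.ext rfl⟩
      rw [← Matrix.GeneralLinearGroup.val_det_apply, MonoidHom.mem_ker.1 hg, Units.val_one]
  refine quotient_equiv φ ?_ ι hι L (by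
    rw [hL, ← hrange, Subgroup.map_map, MonoidHom.map_range, MonoidHom.comp_assoc])
  ext s
  rw [MonoidHom.mem_ker, Subgroup.mem_center_iff]
  show mkF (subMap K (Matrix.SpecialLinearGroup.toGL s)) = 1 ↔ _
  rw [mk_eq_one_iff, ← center_iff_scalar h2 mono_specialLinear]
  constructor
  · intro h g
    have := h (Matrix.SpecialLinearGroup.toGL g) (by rw [← hrange]; exact ⟨g, rfl⟩)
    rw [← map_mul, ← map_mul] at this
    exact Subtype.ext (congrArg Units.val this)
  · intro h t ht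
    rw [← hrange] at ht
    obtain ⟨t', rfl⟩ := ht
    rw [← map_mul, ← map_mul, h t']

theorem psu_image {K : Subfield F} [Fintype K] (h2 : (2 : F) ≠ 0) {q : ℕ} (hK : Fintype.card K = q ^ 2)
    {H : Type v} [Group H] (ι : H →* PG F) (hι : Function.Injective ι) (L : Subgroup H)
    (hL : L.map ι = ((Cfsg.GU 3 K q ⊓ specialLinear (Fin 3) K).map (subMap K)).map mkF) :
    Nonempty (L ≃* Cfsg.PSU 3 K q) := by
  let τ : Cfsg.SU 3 K q →* GL (Fin 3) K := Matrix.SpecialLinearGroup.toGL.comp (Cfsg.SU 3 K q).subtype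
  have hrange : τ.range = Cfsg.GU 3 K q ⊓ specialLinear (Fin 3) K := by
    ext g
    constructor
    · rintro ⟨s, rfl⟩
      exact ⟨s.2, MonoidHom.mem_ker.2 (Units.ext (by rw [Matrix.GeneralLinearGroup.val_det_apply]; exact s.1.2))⟩
    · rintro ⟨hg1, hg⟩
      refine ⟨⟨⟨(g : Matrix (Fin 3) (Fin 3) K), ?_⟩, hg1⟩, Units.ext rfl⟩
      rw [← Matrix.GeneralLinearGroup.val_det_apply, MonoidHom.mem_ker.1 hg, Units.val_one]
  refine quotient_equiv ((mkF).comp ((subMap K).comp τ)) ?_ ι hι L (by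
    rw [hL, ← hrange, Subgroup.map_map, MonoidHom.map_range, MonoidHom.comp_assoc])
  ext s
  rw [MonoidHom.mem_ker, Subgroup.mem_center_iff]
  show mkF (subMap K (τ s)) = 1 ↔ _
  rw [mk_eq_one_iff, ← center_iff_scalar h2 (mono_unitary hK)]
  constructor
  · intro h g
    have := h (τ g) (by rw [← hrange]; exact ⟨g, rfl⟩)
    rw [← map_mul, ← map_mul] at this
    exact Subtype.ext (Subtype.ext (congrArg Units.val this))
  · intro h t ht
    rw [← hrange] at ht
    obtain ⟨t', rfl⟩ := ht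
    rw [← map_mul, ← map_mul, h t']

/-- A non-cube of a subfield that is a cube in the field. -/
theorem three_dvd_of_cube [Fintype F] {K : Subfield F} {d : K} (hd0 : d ≠ 0) (hnc : ∀ x : K, x ^ 3 ≠ d)
    {x : F} (hx : x ^ 3 = (d : F)) {n : ℕ} (hn : Nat.card F = Nat.card K ^ n) :
    3 ∣ Nat.card K - 1 ∧ 3 ∣ n := by
  classical
  haveI : Fintype K := Fintype.ofFinite K
  set Q := Nat.card K with hQ
  have hQ1 : 1 < Q := Finite.one_lt_card
  have h3 : 3 ∣ Q - 1 := by
    by_contra h3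
    have hcop : Nat.Coprime (Nat.card Kˣ) 3 := by
      rw [Nat.card_units, ← hQ, Nat.coprime_comm]
      exact (Nat.Prime.coprime_iff_not_dvd Nat.prime_three).2 h3
    obtain ⟨y, hy⟩ := (powCoprime hcop).surjective (Units.mk0 d hd0)
    exact hnc y (by simpa [powCoprime] using congrArg Units.val hy)
  refine ⟨h3, ?_⟩
  obtain ⟨σ, hσ, hfix⟩ := exists_conj_card K
  have hx0 : x ≠ 0 := fun e => hd0 (Subtype.ext (by rw [← hx, e, zero_pow (by norm_num)]; rfl))
  set ω := x ^ (Q - 1) with hω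
  have hdQ : d ^ (Q - 1) = 1 := by
    rw [hQ, Nat.card_eq_fintype_card]; exact FiniteField.pow_card_sub_one_eq_one d hd0
  have hω3 : ω ^ 3 = 1 := by
    rw [hω, ← pow_mul, mul_comm, pow_mul, hx]
    exact_mod_cast congrArg Subtype.val hdQ
  have hxQ : x ^ Q = ω * x := by
    rw [hω, ← pow_succ, show Q - 1 + 1 = Q by omega]
  have hω1 : ω ≠ 1 := fun e => hnc ⟨x, (hfix x).1 (by rw [hσ, ← hQ, hxQ, e, one_mul])⟩ (Subtype.ext hx)
  have hωQ : ω ^ Q = ω := by
    obtain ⟨t, ht⟩ := h3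
    rw [show Q = 3 * t + 1 by omega, pow_succ, pow_mul, hω3, one_pow, one_mul]
  have hi : ∀ i : ℕ, x ^ (Q ^ i) = ω ^ i * x := fun i => by
    induction i with
    | zero => simp
    | succ i ih =>
      rw [pow_succ, pow_mul, ih, mul_pow, hxQ, ← pow_mul, mul_comm i Q, pow_mul, hωQ, pow_succ]
      ring
  have hωn : ω ^ n = 1 := by
    have h := hi n
    rw [← hn, Nat.card_eq_fintype_card, FiniteField.pow_card] at h
    exact mul_right_cancel₀ hx0 (by rw [one_mul]; exact h.symm)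
  haveI : Fact (Nat.Prime 3) := ⟨Nat.prime_three⟩
  exact (orderOf_eq_prime hω3 hω1) ▸ orderOf_dvd_of_pow_eq_one hωn

variable [Finite F] {p α : ℕ} [Fact p.Prime] [CharP F p] {H : Type v} [Group H]

theorem subfield_card (K : Subfield F) (hF : Nat.card F = p ^ α) :
    ∃ m n : ℕ, 0 < m ∧ Nat.card K = p ^ m ∧ α = m * n ∧ Nat.card F = Nat.card K ^ n := by
  haveI : Fintype K := Fintype.ofFinite K
  haveI : CharP K p := (K.subtype.charP_iff K.subtype.injective p).2 inferInstance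
  obtain ⟨m, -, hm⟩ := FiniteField.card K p
  have hF' := Module.natCard_eq_pow_finrank (K := K) (V := F)
  refine ⟨m, Module.finrank K F, m.pos, by rw [Nat.card_eq_fintype_card, hm], ?_, hF'⟩
  rw [hF, Nat.card_eq_fintype_card, hm, ← pow_mul] at hF'
  exact Nat.pow_right_injective (Fact.out : p.Prime).two_le hF'

theorem big_linear (h2 : (2 : F) ≠ 0) (hF : Nat.card F = p ^ α) (ι : H →* PG F) (hι : Function.Injective ι)
    (hdet : ∀ h (g : GG), (QuotientGroup.mk g : PG F) = ι h → ∃ c : F, (g : MM).det = c ^ 3) (L : Subgroup H)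
    {K : Subfield F} (hL : L.map ι = ((specialLinear (Fin 3) K).map (subMap K)).map mkF)
    (hH : ∀ h, ∃ g0 : GL (Fin 3) K, mkF (subMap K g0) = ι h) : Big p α H := by
  classical
  haveI := Fintype.ofFinite F
  haveI : Fintype K := Fintype.ofFinite K
  obtain ⟨m, n, hm0, hm, hmn, hn⟩ := subfield_card K hF
  let K' := GaloisField p m
  haveI : Fintype K' := Fintype.ofFinite K'
  have hK' : Fintype.card K' = p ^ m := by rw [← Nat.card_eq_fintype_card, GaloisField.card p m hm0.ne']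
  have hKK : Fintype.card K = Fintype.card K' := by rw [hK', ← Nat.card_eq_fintype_card, hm]
  obtain ⟨e⟩ := psl_three_congr (FiniteField.ringEquivOfCardEq (K := K) (K' := K') hKK)
  obtain ⟨eL⟩ := psl_image h2 ι hι L hL
  have hsl : ∀ s ∈ specialLinear (Fin 3) K, (s : Matrix (Fin 3) (Fin 3) K).det = 1 := fun s hs => by
    rw [← Matrix.GeneralLinearGroup.val_det_apply, MonoidHom.mem_ker.1 hs, Units.val_one]
  rcases layer (N0 := ⊤) le_top hsl ι hι L hL (fun h => by
      obtain ⟨g0, hg0⟩ := hH h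
      exact ⟨g0, Subgroup.mem_top _, hg0⟩) (fun g0 _ hc => by
      obtain ⟨c, hc⟩ := hc
      have hc0 : c ≠ 0 := fun e => Matrix.GeneralLinearGroup.det_ne_zero g0 (by
        rw [← hc, e, zero_pow (by norm_num)])
      have hd : (c⁻¹ • (g0 : Matrix (Fin 3) (Fin 3) K)).det = 1 := by
        rw [Matrix.det_smul, Fintype.card_fin, ← hc, ← mul_pow, inv_mul_cancel₀ hc0, one_pow]
      exact ⟨Matrix.GeneralLinearGroup.mkOfDetNeZero _ (by rw [hd]; exact one_ne_zero),
        MonoidHom.mem_ker.2 (Units.ext (by rw [Matrix.GeneralLinearGroup.val_det_apply]; exact hd)), c,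
        (smul_inv_smul₀ hc0 _).symm⟩) with htop | ⟨hidx, g0, -, ⟨h, hh⟩, hnc⟩
  · refine Or.inl ⟨K', inferInstance, inferInstance, m, hK', ⟨n, hmn⟩, ⟨?_⟩⟩
    exact Subgroup.topEquiv.symm.trans ((MulEquiv.subgroupCongr htop.symm).trans (eL.trans e))
  · obtain ⟨c, hc⟩ := hdet h (subMap K g0) hh
    rw [det_subMap] at hc
    obtain ⟨h3, ⟨t, ht⟩⟩ := three_dvd_of_cube (Matrix.GeneralLinearGroup.det_ne_zero g0) hnc hc.symm hn
    exact Or.inr (Or.inr (Or.inl ⟨K', inferInstance, inferInstance, m, hK', hm ▸ h3,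
      ⟨t, by rw [hmn, ht]; ring⟩, L, hidx, ⟨eL.trans e⟩⟩))

theorem big_unitary (h2 : (2 : F) ≠ 0) (hF : Nat.card F = p ^ α) (ι : H →* PG F) (hι : Function.Injective ι)
    (hdet : ∀ h (g : GG), (QuotientGroup.mk g : PG F) = ι h → ∃ c : F, (g : MM).det = c ^ 3) (L : Subgroup H)
    {K : Subfield F} {q : ℕ} (hq : Nat.card K = q ^ 2)
    (hL : L.map ι = ((Cfsg.GU 3 K q ⊓ specialLinear (Fin 3) K).map (subMap K)).map mkF)
    (hH : ∀ h, ∃ g0 ∈ Cfsg.GU 3 K q, mkF (subMap K g0) = ι h) : Big p α H := by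
  classical
  haveI := Fintype.ofFinite F
  haveI : Fintype K := Fintype.ofFinite K
  obtain ⟨m, n, hm0, hm, hmn, hn⟩ := subfield_card K hF
  have hpp : p.Prime := Fact.out
  obtain ⟨β, -, rfl⟩ := (Nat.dvd_prime_pow hpp).1 (hm ▸ hq.symm ▸ dvd_pow_self q two_ne_zero : q ∣ p ^ m)
  have hm2 : m = 2 * β := Nat.pow_right_injective hpp.two_le (by
    show p ^ m = p ^ (2 * β)
    rw [← hm, hq, ← pow_mul, mul_comm])
  subst hm2
  let K' := GaloisField p (2 * β)
  haveI : Fintype K' := Fintype.ofFinite K'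
  have hK' : Fintype.card K' = p ^ (2 * β) := by rw [← Nat.card_eq_fintype_card, GaloisField.card p _ hm0.ne']
  have hKK : Fintype.card K = Fintype.card K' := by rw [hK', ← Nat.card_eq_fintype_card, hm]
  obtain ⟨e⟩ := Cfsg.Lib.UFourThreeCover.psu_congr (FiniteField.ringEquivOfCardEq (K := K) (K' := K') hKK) 3 (p ^ β)
  have hKc : Fintype.card K = (p ^ β) ^ 2 := by rw [← Nat.card_eq_fintype_card, hq]
  obtain ⟨eL⟩ := psu_image h2 hKc ι hι L hL
  set q := p ^ β with hqdef
  have hq0 : 0 < q := pow_pos hpp.pos β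
  have hnorm : ∀ g ∈ Cfsg.GU 3 K q, (g : Matrix (Fin 3) (Fin 3) K).det ^ (q + 1) = 1 := fun g hg => by
    have e : (g : Matrix (Fin 3) (Fin 3) K)ᵀ * (g : Matrix (Fin 3) (Fin 3) K).map (powConj hKc) = 1 := by
      refine Matrix.ext fun i j => ?_
      have h : Cfsg.hermForm 3 K q ((g : Matrix (Fin 3) (Fin 3) K) *ᵥ Pi.single i 1)
          ((g : Matrix (Fin 3) (Fin 3) K) *ᵥ Pi.single j 1) =
            Cfsg.hermForm 3 K q (Pi.single i 1) (Pi.single j 1) := hg _ _
      rw [← stdHerm_h hKc, ← stdHerm_h hKc] at h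
      change ∑ a, ((g : Matrix (Fin 3) (Fin 3) K) *ᵥ Pi.single i 1) a *
          powConj hKc (((g : Matrix (Fin 3) (Fin 3) K) *ᵥ Pi.single j 1) a) =
        ∑ a, (Pi.single i 1 : Fin 3 → K) a * powConj hKc ((Pi.single j 1 : Fin 3 → K) a) at h
      rw [mulVec_single_one, mulVec_single_one] at h
      rw [Matrix.mul_apply]
      refine Eq.trans h ?_
      rw [Matrix.one_apply, Finset.sum_eq_single i (fun b _ hb => by simp [hb]) (by simp)]
      simp [Pi.single_apply]
    have hd := congrArg Matrix.det e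
    rw [Matrix.det_mul, Matrix.det_transpose, Matrix.det_one, ← RingHom.mapMatrix_apply, ← RingHom.map_det,
      powConj_apply] at hd
    rw [pow_succ']
    exact hd
  have hsl : ∀ s ∈ Cfsg.GU 3 K q ⊓ specialLinear (Fin 3) K, (s : Matrix (Fin 3) (Fin 3) K).det = 1 :=
    fun s hs => by rw [← Matrix.GeneralLinearGroup.val_det_apply, MonoidHom.mem_ker.1 hs.2, Units.val_one]
  rcases layer (N0 := Cfsg.GU 3 K q) inf_le_left hsl ι hι L hL hH (fun g0 hg0 hc => by
      obtain ⟨c, hc⟩ := hc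
      -- correct the cube root to norm one
      set a := c * c ^ (q + 1) with ha
      have hc0 : c ≠ 0 := fun e => Matrix.GeneralLinearGroup.det_ne_zero g0 (by
        rw [← hc, e, zero_pow (by norm_num)])
      have hN3 : (c ^ (q + 1)) ^ 3 = 1 := by rw [← pow_mul, mul_comm, pow_mul, hc, hnorm g0 hg0]
      have hfix : (c ^ (q + 1)) ^ q = c ^ (q + 1) := by
        have hcard : c ^ (q ^ 2) = c := by rw [← hKc]; exact FiniteField.pow_card c
        rw [← pow_mul, add_mul, one_mul, ← pow_two, pow_add, hcard, pow_succ]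
        ring
      have ha0 : a ≠ 0 := mul_ne_zero hc0 (pow_ne_zero _ hc0)
      have ha3 : a ^ 3 = (g0 : Matrix (Fin 3) (Fin 3) K).det := by rw [ha, mul_pow, hN3, mul_one, hc]
      have haN : a ^ (q + 1) = 1 := by
        rw [ha, mul_pow, pow_succ (c ^ (q + 1)) q, hfix]
        linear_combination hN3
      have hd : (a⁻¹ • (g0 : Matrix (Fin 3) (Fin 3) K)).det = 1 := by
        rw [Matrix.det_smul, Fintype.card_fin, ← ha3, ← mul_pow, inv_mul_cancel₀ ha0, one_pow]
      refine ⟨Matrix.GeneralLinearGroup.mkOfDetNeZero _ (by rw [hd]; exact one_ne_zero),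
        ⟨fun u v => ?_, MonoidHom.mem_ker.2 (Units.ext (by rw [Matrix.GeneralLinearGroup.val_det_apply]; exact hd))⟩,
        a, (smul_inv_smul₀ ha0 _).symm⟩
      show Cfsg.hermForm 3 K q ((a⁻¹ • (g0 : Matrix (Fin 3) (Fin 3) K)) *ᵥ u)
        ((a⁻¹ • (g0 : Matrix (Fin 3) (Fin 3) K)) *ᵥ v) = _
      have h0 : Cfsg.hermForm 3 K q ((g0 : Matrix (Fin 3) (Fin 3) K) *ᵥ u)
          ((g0 : Matrix (Fin 3) (Fin 3) K) *ᵥ v) = Cfsg.hermForm 3 K q u v := hg0 u v
      rw [← h0, ← stdHerm_h hKc, ← stdHerm_h hKc, smul_mulVec, smul_mulVec, HermSpace.smul_left,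
        HermSpace.smul_right, ← mul_assoc]
      have : a⁻¹ * (stdHerm 3 hKc).σ a⁻¹ = 1 := by
        show a⁻¹ * powConj hKc a⁻¹ = 1
        rw [powConj_apply, ← pow_succ', inv_pow, haN, inv_one]
      rw [this, one_mul]) with htop | ⟨hidx, g0, hg0, ⟨h, hh⟩, hnc⟩
  · refine Or.inr (Or.inl ⟨K', inferInstance, inferInstance, β, hK', ⟨n, hmn⟩, ⟨?_⟩⟩)
    exact Subgroup.topEquiv.symm.trans ((MulEquiv.subgroupCongr htop.symm).trans (eL.trans e))
  · obtain ⟨c, hc⟩ := hdet h (subMap K g0) hh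
    rw [det_subMap] at hc
    set d := (g0 : Matrix (Fin 3) (Fin 3) K).det with hddef
    have hd0 : d ≠ 0 := Matrix.GeneralLinearGroup.det_ne_zero g0
    obtain ⟨-, ⟨t, ht⟩⟩ := three_dvd_of_cube hd0 hnc hc.symm hn
    have h3 : 3 ∣ q + 1 := by
      by_contra h3
      have hcop : Nat.Coprime 3 (orderOf d) := (Nat.Coprime.coprime_dvd_right
        (orderOf_dvd_of_pow_eq_one (hnorm g0 hg0)) ((Nat.Prime.coprime_iff_not_dvd Nat.prime_three).2 h3))
      obtain ⟨m, hm⟩ := exists_pow_eq_self_of_coprime hcop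
      exact hnc (d ^ m) (by rw [← pow_mul, mul_comm, pow_mul, hm])
    exact Or.inr (Or.inr (Or.inr ⟨K', inferInstance, inferInstance, β, hK', h3,
      ⟨t, by rw [hmn, ht]; ring⟩, L, hidx, ⟨eL.trans e⟩⟩))

/-- The case of a socle containing an elation. -/
theorem big_of_elation (hp2 : p ≠ 2) (hF : Nat.card F = p ^ α) [Finite H] (ι : H →* PG F)
    (hι : Function.Injective ι)
    (hdet : ∀ h (g : GG), (QuotientGroup.mk g : PG F) = ι h → ∃ c : F, (g : MM).det = c ^ 3) (L : Subgroup H)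
    [L.Normal] [IsSimpleGroup L] (hLc : ¬ IsMulCommutative L)
    (hSyl : ∃ S : Sylow 2 L, Cfsg.IsQuasiDihedral (S : Subgroup L) ∨ Cfsg.IsWreathed (S : Subgroup L))
    (hel : ∃ h ∈ L, ∃ g : GG, (QuotientGroup.mk g : PG F) = ι h ∧ ∃ u φ : Fin 3 → F,
      u ≠ 0 ∧ φ ≠ 0 ∧ φ ⬝ᵥ u = 0 ∧ (g : MM) = 1 + vecMulVec u φ) : Big p α H := by
  classical
  haveI := Fintype.ofFinite F
  have h2 : (2 : F) ≠ 0 := fun e => hp2 ((CharP.charP_iff_prime_eq_zero Nat.prime_two).2
    (by exact_mod_cast e) |> fun h2' => CharP.eq F inferInstance h2')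
  obtain ⟨t, ht1, htt⟩ : ∃ t : L, t ≠ 1 ∧ t * t = 1 := by
    haveI : Fact (Nat.Prime 2) := ⟨Nat.prime_two⟩
    obtain ⟨S, hS⟩ := hSyl
    have h : 2 ∣ Nat.card L := by
      refine dvd_trans ?_ (S : Subgroup L).card_subgroup_dvd_card
      rcases hS with ⟨n, -, hn, -⟩ | ⟨n, -, hn, -⟩ <;> rw [hn] <;> exact dvd_pow_self 2 (by omega)
    obtain ⟨t, ht⟩ := exists_prime_orderOf_dvd_card' 2 h
    refine ⟨t, fun e => ?_, by rw [← pow_two, ← ht, pow_orderOf_eq_one]⟩
    rw [e, orderOf_one] at ht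
    omega
  set X : Subgroup GG := (L.map ι).comap mkF with hX
  let π : X →* L := (Subgroup.equivMapOfInjective L ι hι).symm.toMonoidHom.comp
    (((mkF).comp X.subtype).codRestrict (L.map ι) fun x => x.2)
  have hπ : ∀ x : X, ι ((π x : L) : H) = mkF (x : GG) := fun x =>
    congrArg Subtype.val ((Subgroup.equivMapOfInjective L ι hι).apply_symm_apply ⟨mkF (x : GG), x.2⟩)
  have hC : Cover X π := by
    refine ⟨fun l => ?_, fun x => ?_⟩
    · obtain ⟨g, hg⟩ := QuotientGroup.mk'_surjective (scalars (Fin 3) F) (ι (l : H))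
      refine ⟨⟨g, ⟨l, l.2, hg.symm⟩⟩, Subtype.ext (hι ((hπ _).trans hg))⟩
    · rw [← mk_eq_one_iff, ← hπ]
      exact ⟨fun e => by rw [e, Subgroup.coe_one, map_one], fun e => Subtype.ext (hι (by rw [e, Subgroup.coe_one, map_one]))⟩
  have hirr := irr_of_cover h2 hLc ht1 htt hC
  obtain ⟨h0, hh0, g, hg, u, φ, hu, hφ, hφu, hgv⟩ := hel
  have hgX : g ∈ X := ⟨h0, hh0, hg.symm⟩
  have hI : Cfsg.Lib.Classical.SLThree.Elation.Inc X u φ := ⟨hφu, g, hgX, hgv⟩
  -- the transvections cover the socle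
  set T := transGen X with hT
  have hTX : T ≤ X := transGen_le
  have hTL : L.map ι = T.map mkF := by
    haveI hn : (T.subgroupOf X).Normal := ⟨fun n hn x => by
      rw [Subgroup.mem_subgroupOf] at hn ⊢
      exact (Subgroup.mem_normalizer_iff.1 (transGen_normal x.2) _).1 hn⟩
    haveI : ((T.subgroupOf X).map π).Normal := hn.map π hC.surj
    have htop : (T.subgroupOf X).map π = ⊤ := by
      refine (inferInstance : ((T.subgroupOf X).map π).Normal).eq_bot_or_eq_top.resolve_left fun e => ?_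
      have hgT : g ∈ T := Subgroup.subset_closure ⟨hgX, u, φ, hφu, hgv⟩
      obtain ⟨c, hc⟩ := (hC.ker ⟨g, hgX⟩).1 (Subgroup.mem_bot.1 (e ▸ ⟨⟨g, hgX⟩, hgT, rfl⟩))
      rw [show ((⟨g, hgX⟩ : X) : GG) = g from rfl, hgv] at hc
      obtain ⟨i, hi⟩ := Function.ne_iff.1 hu
      obtain ⟨j, hj⟩ := Function.ne_iff.1 hφ
      have h1 : c = 1 := by
        have := congrArg (fun M : MM => M *ᵥ u) hc
        rw [one_mulVec', hφu, zero_smul, add_zero, smul_mulVec, one_mulVec] at this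
        have := congrFun this i
        rw [Pi.smul_apply, smul_eq_mul] at this
        exact (mul_right_cancel₀ hi (by rw [one_mul, ← this])).symm
      rw [h1, one_smul, add_eq_left] at hc
      have := congrFun (congrFun hc i) j
      rw [vecMulVec_apply, Matrix.zero_apply] at this
      exact mul_ne_zero hi hj this
    refine le_antisymm ?_ (Subgroup.map_le_iff_le_comap.2 hTX)
    rintro _ ⟨l, hl, rfl⟩
    obtain ⟨x, hx, e⟩ : (⟨l, hl⟩ : L) ∈ (T.subgroupOf X).map π := htop ▸ Subgroup.mem_top _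
    exact ⟨x, hx, by rw [← hπ, e]⟩
  have hTH : ∀ (h : H) (g : GG), mkF g = ι h → conjG g T = T := by
    intro h g hg
    rw [hT, ← transGen_conjG]
    congr 1
    ext x
    constructor
    · rintro ⟨y, ⟨l, hl, e⟩, rfl⟩
      refine ⟨h * l * h⁻¹, Subgroup.Normal.conj_mem inferInstance l hl h, ?_⟩
      show ι (h * l * h⁻¹) = mkF (g * y * g⁻¹)
      rw [map_mul, map_mul, map_mul, map_mul, map_inv, map_inv, hg, e]
    · rintro ⟨l, hl, e⟩
      refine ⟨g⁻¹ * x * g, ⟨h⁻¹ * l * h⁻¹⁻¹, Subgroup.Normal.conj_mem inferInstance l hl h⁻¹, ?_⟩,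
        show g * (g⁻¹ * x * g) * g⁻¹ = x by group⟩
      rw [inv_inv, map_mul, map_mul, map_mul, map_mul, map_inv, map_inv, hg, e]
  -- change of frame
  have frame : ∀ (P : GG) (K : Subfield F) (S0 : Subgroup (GL (Fin 3) K)), Mono S0 →
      conjG P T = S0.map (subMap K) →
      ∃ ι' : H →* PG F, Function.Injective ι' ∧
        (∀ h (g : GG), (QuotientGroup.mk g : PG F) = ι' h → ∃ c : F, (g : MM).det = c ^ 3) ∧
        L.map ι' = (S0.map (subMap K)).map mkF ∧
        ∀ h, ∃ g0 : GL (Fin 3) K, mkF (subMap K g0) = ι' h ∧ ∀ s ∈ S0, g0 * s * g0⁻¹ ∈ S0 := by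
    intro P K S0 hM hP
    refine ⟨(MulAut.conj (mkF P)).toMonoidHom.comp ι, (MulAut.conj (mkF P)).injective.comp hι, ?_, ?_, ?_⟩
    · intro h g hg
      obtain ⟨c, hc⟩ := hdet h (P⁻¹ * g * P) (by
        show mkF (P⁻¹ * g * P) = ι h
        rw [map_mul, map_mul, map_inv, show mkF g = mkF P * ι h * (mkF P)⁻¹ from hg]
        group)
      refine ⟨c, ?_⟩
      rw [← hc, Units.val_mul, Units.val_mul, Matrix.det_units_conj']
    · rw [← Subgroup.map_map, hTL, ← hP, conjG, Subgroup.map_map, Subgroup.map_map]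
      congr 1
    · intro h
      obtain ⟨g, hg⟩ := QuotientGroup.mk'_surjective (scalars (Fin 3) F) (ι h)
      set g' := P * g * P⁻¹ with hg'
      have hnorm : ∀ s ∈ S0, g' * subMap K s * g'⁻¹ ∈ S0.map (subMap K) := fun s hs => by
        have hs' : subMap K s ∈ conjG P T := hP ▸ Subgroup.mem_map_of_mem _ hs
        obtain ⟨x, hx, e⟩ := hs'
        have hgx : g * x * g⁻¹ ∈ T := hTH h g hg ▸ Subgroup.mem_map_of_mem _ hx
        rw [← hP, ← e]
        refine ⟨_, hgx, ?_⟩
        show P * (g * x * g⁻¹) * P⁻¹ = g' * (P * x * P⁻¹) * g'⁻¹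
        rw [hg']; group
      obtain ⟨μ, g0, -, e⟩ := rational_of_normalising h2 hM hnorm
      refine ⟨g0, ?_, fun s hs => ?_⟩
      · rw [← mk_eq_of_smul e, hg', map_mul, map_mul, map_inv, hg]
        rfl
      · obtain ⟨s', hs', es⟩ := hnorm s hs
        have hsc : IsScalar (g' * (subMap K g0)⁻¹) := ⟨μ, by
          rw [Units.val_mul, e, Matrix.smul_mul, ← Units.val_mul, mul_inv_cancel, Units.val_one]⟩
        have hcomm : ∀ x : GG, g' * (subMap K g0)⁻¹ * x = x * (g' * (subMap K g0)⁻¹) := fun x => by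
          obtain ⟨c, hc⟩ := hsc
          refine Units.ext ?_
          rw [Units.val_mul _ x, Units.val_mul x, hc, Matrix.smul_mul, Matrix.mul_smul, Matrix.one_mul, Matrix.mul_one]
        have : subMap K (g0 * s * g0⁻¹) = subMap K s' := by
          rw [es, map_mul, map_mul, map_inv]
          calc subMap K g0 * subMap K s * (subMap K g0)⁻¹
              = (g' * (subMap K g0)⁻¹) * (subMap K g0 * subMap K s * (subMap K g0)⁻¹) *
                  (g' * (subMap K g0)⁻¹)⁻¹ := by rw [hcomm, mul_inv_cancel_right]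
            _ = g' * subMap K s * g'⁻¹ := by group
        exact subMap_injective K this ▸ hs'
  rcases elation_recognition h2 hirr ⟨u, φ, hu, hφ, hI⟩ with ⟨P, K, hP⟩ | ⟨P, K, q, hq, -, hP⟩
  · obtain ⟨ι', hι', hdet', hL', hH'⟩ := frame P K _ mono_specialLinear hP
    exact big_linear h2 hF ι' hι' hdet' L hL' fun h => ⟨_, (hH' h).choose_spec.1⟩
  · haveI : Fintype K := Fintype.ofFinite K
    have hKc : Fintype.card K = q ^ 2 := by rw [← Nat.card_eq_fintype_card, hq]
    obtain ⟨ι', hι', hdet', hL', hH'⟩ := frame P K _ (mono_unitary hKc) hP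
    refine big_unitary h2 hF ι' hι' hdet' L hq hL' fun h => ?_
    obtain ⟨g0, e, hn⟩ := hH' h
    have h2K : (2 : K) ≠ 0 := fun e' => h2 (by
      have := congrArg K.subtype e'; rwa [map_ofNat, map_zero] at this)
    obtain ⟨c, -, w, hw, ew⟩ := unitary_of_normalising h2K hKc hn
    refine ⟨w, hw, (mk_eq_of_smul (c := (c : F)) ?_).symm.trans e⟩
    rw [subMap_val, subMap_val, ew]
    ext i j; simp

end Cfsg.Lib.MitchellThree
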