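import Cfsg.Agent.MitchellThree.Elation.Basic

/-!
An irreducible group with an axis carrying two centres: its transvections generate the special linear group of a
subfield in a suitable frame.
-/

set_option autoImplicit false
set_option linter.unusedSectionVars false
set_option linter.unusedSimpArgs false
set_option linter.style.haveILetI false

namespace Cfsg.Lib.MitchellThree.Elation

open Matrix Cfsg.Lib.Classical Cfsg.Lib.Classical.LinOne Cfsg.Lib.Classical.SLThree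
  Cfsg.Lib.Classical.SLThree.Elation Cfsg.Lib.Classical.SLThree.Singer
open scoped MatrixGroups

universe u

variable {F : Type u} [Field F] {G : Subgroup (GL (Fin 3) F)}

local notation "MM" => Matrix (Fin 3) (Fin 3) F
local notation "GG" => GL (Fin 3) F
local notation "VV" => (Fin 3 → F)

/-- A coordinate vector. -/
abbrev ev {R : Type*} [Zero R] [One R] (i : Fin 3) : Fin 3 → R := Pi.single i 1

/-- Some axis carries two centres. -/
def Many (G : Subgroup (GL (Fin 3) F)) : Prop :=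
  ∃ φ x x', φ ≠ 0 ∧ x ≠ 0 ∧ Inc G x φ ∧ Inc G x' φ ∧ ∀ a : F, x' ≠ a • x

theorem fin_third (i j : Fin 3) (h : i ≠ j) : ∃ m, m ≠ i ∧ m ≠ j ∧ ∀ l, l = i ∨ l = j ∨ l = m := by
  revert i j; decide

/-- A vector with given images under three dual functionals. -/
theorem exists_frame_matrix {e f : Fin 3 → VV} (h : ∀ i j, f i ⬝ᵥ e j = if i = j then 1 else 0) :
    ∃ P : GG, (∀ v i, ((P : MM) *ᵥ v) i = f i ⬝ᵥ v) ∧ ∀ χ i, (χ ᵥ* ((P⁻¹ : GG) : MM)) i = χ ⬝ᵥ e i := by
  have h1 : Matrix.of f * (Matrix.of e)ᵀ = 1 := by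
    ext i j
    rw [Matrix.one_apply]
    exact h i j
  exact ⟨⟨Matrix.of f, (Matrix.of e)ᵀ, h1, mul_eq_one_comm.1 h1⟩, fun v i => rfl, fun χ i => rfl⟩

/-- The parameters at the six positions are non-zero. -/
def Pre (G : Subgroup (GL (Fin 3) F)) : Prop :=
  ∀ i j : Fin 3, i ≠ j → ∃ c : F, c ≠ 0 ∧ Inc G (c • ev i) (ev j)

/-- The parameters form the same subfield at the six positions. -/
def Std (G : Subgroup (GL (Fin 3) F)) (k : Subfield F) : Prop :=
  ∀ i j : Fin 3, i ≠ j → ∀ c : F, Inc G (c • ev i) (ev j) ↔ c ∈ k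

section finite

variable [Finite F]

theorem Many.pair_centre (h2 : (2 : F) ≠ 0) {φ x x' : VV} (hφ : φ ≠ 0) (hx : x ≠ 0) (h : Inc G x φ)
    (h' : Inc G x' φ) (hne : ∀ a : F, x' ≠ a • x) {y ψ : VV} (hψ : ψ ≠ 0) (hy : Inc G y ψ)
    (ha : φ ⬝ᵥ y ≠ 0) :
    ∃ p, p ≠ 0 ∧ ψ ⬝ᵥ p = 0 ∧ Inc G p φ ∧ Inc G p ((φ ⬝ᵥ y) • ψ) := by
  suffices ∃ p, p ≠ 0 ∧ ψ ⬝ᵥ p = 0 ∧ Inc G p φ by
    obtain ⟨p, hp, hp0, hpφ⟩ := this
    exact ⟨p, hp, hp0, hpφ, Inc.move (Inc.comm hpφ hy hp0) ha⟩
  by_cases hb : ψ ⬝ᵥ x = 0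
  · exact ⟨x, hx, hb, h⟩
  · have hs := (Opp.mk h hy ha hb).split h2 h'
    refine ⟨_, sub_ne_zero.2 (hne _), ?_, hs⟩
    rw [dotProduct_sub, dotProduct_smul, smul_eq_mul, div_mul_cancel₀ _ hb, sub_self]

theorem Many.dual [Fintype F] (h2 : (2 : F) ≠ 0) (hirr : Irr G) (hM : Many G) : Many (G.map dualHom) := by
  obtain ⟨φ, x, x', hφ, hx, h, h', hne⟩ := hM
  obtain ⟨y, ψ, -, hψ, hy, ha⟩ := exists_centre hirr hx hφ h hφ
  obtain ⟨p, hp, -, h1, h3⟩ := Many.pair_centre h2 hφ hx h h' hne hψ hy ha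
  refine ⟨p, φ, _, hp, hφ, inc_dual h1, inc_dual h3, fun a e => ?_⟩
  have e2 := congrArg (fun v => v ⬝ᵥ y) e
  have ha0 : a = 0 := by simpa [smul_dotProduct, hy.1, ha, eq_comm] using e2
  rw [ha0, zero_smul] at e
  exact (smul_ne_zero ha hψ) e

theorem Many.pre [Fintype F] (h2 : (2 : F) ≠ 0) (hirr : Irr G) (hM : Many G) : ∃ P : GG, Pre (conjG P G) := by
  obtain ⟨φ, x, x', hφ, hx, h, h', hne⟩ := hM
  obtain ⟨y, ψ, -, hψ, hy, hya⟩ := exists_centre hirr hx hφ h hφ
  obtain ⟨p, hp, hψp, hpφ, hpψ⟩ := Many.pair_centre h2 hφ hx h h' hne hψ hy hya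
  have hψφ : ∀ a : F, ψ ≠ a • φ := fun a e => by
    have := hy.1
    rw [e, smul_dotProduct, smul_eq_mul] at this
    exact hψ (by rw [e, (mul_eq_zero.1 this).resolve_right hya, zero_smul])
  have hline : ∀ z, φ ⬝ᵥ z = 0 → ψ ⬝ᵥ z = 0 → ∃ a : F, z = a • p := fun z =>
    kernel_line hφ hψφ hp hpφ.1 hψp
  obtain ⟨y', ψ', hψ', hy', hψ'p, hy'a⟩ : ∃ y' ψ', ψ' ≠ 0 ∧ Inc G y' ψ' ∧ ψ' ⬝ᵥ p ≠ 0 ∧ φ ⬝ᵥ y' ≠ 0 := by
    obtain ⟨y', ψ', hy'0, hψ', hy', hψ'p⟩ := exists_axis hirr hx hφ h hp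
    by_cases h0 : φ ⬝ᵥ y' = 0
    swap
    · exact ⟨y', ψ', hψ', hy', hψ'p, h0⟩
    have hψy' : ψ ⬝ᵥ y' ≠ 0 := fun e => by
      obtain ⟨a, rfl⟩ := hline y' h0 e
      have h1 := hy'.1
      rw [dotProduct_smul, smul_eq_mul] at h1
      exact hy'0 (by rw [(mul_eq_zero.1 h1).resolve_right hψ'p, zero_smul])
    obtain ⟨g, hg, hgv⟩ := hy.2
    refine ⟨_, _, GL_ne_zero_vecMul _ hψ', hy'.conj hg, ?_, ?_⟩
    · have hgp : (g : MM) *ᵥ p = p := by rw [hgv, one_mulVec', hψp, zero_smul, add_zero]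
      rw [← hgp, dot_conj]
      exact hψ'p
    · rw [hgv, one_mulVec', dotProduct_add, h0, zero_add, dotProduct_smul, smul_eq_mul]
      exact mul_ne_zero hψy' hya
  obtain ⟨p', hp', hψp', hp'φ, hp'ψ⟩ := Many.pair_centre h2 hφ hx h h' hne hψ' hy' hy'a
  have hψp0 : ψ ⬝ᵥ p' ≠ 0 := fun e => by
    obtain ⟨a, rfl⟩ := hline p' hp'φ.1 e
    rw [dotProduct_smul, smul_eq_mul] at hψp'
    exact hp' (by rw [(mul_eq_zero.1 hψp').resolve_right hψ'p, zero_smul])
  obtain ⟨e3, he3, h3a, h3b⟩ := exists_pair ψ ψ'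
  have hφe3 : φ ⬝ᵥ e3 ≠ 0 := fun e => by
    obtain ⟨a, rfl⟩ := hline e3 e h3a
    rw [dotProduct_smul, smul_eq_mul] at h3b
    exact he3 (by rw [(mul_eq_zero.1 h3b).resolve_right hψ'p, zero_smul])
  set e : Fin 3 → VV := ![p', p, e3] with he
  set f : Fin 3 → VV := ![(ψ ⬝ᵥ p')⁻¹ • ψ, (ψ' ⬝ᵥ p)⁻¹ • ψ', (φ ⬝ᵥ e3)⁻¹ • φ] with hf
  have hdual : ∀ i j, f i ⬝ᵥ e j = if i = j then 1 else 0 := by
    intro i j
    fin_cases i <;> fin_cases j <;>
      simp [he, hf, hψp0, hψp, hψp', h3a, h3b, hψ'p, hφe3, hpφ.1, hp'φ.1]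
  obtain ⟨P, hP, hP'⟩ := exists_frame_matrix hdual
  refine ⟨P, ?_⟩
  -- transport of elations with a coordinate centre
  have tr : ∀ (i j : Fin 3) (a : F), a ≠ 0 → Inc G (e i) (a • f j) → Inc (conjG P G) (a • ev i) (ev j) := by
    intro i j a ha hI
    have h1 := inc_conjG (P := P) (Inc.smul_right hI ha)
    convert h1 using 1
    · funext l
      rw [hP, dotProduct_smul, hdual]
      simp [ev, Pi.single_apply]
    · funext l
      rw [hP', hdual]
      simp [ev, Pi.single_apply, eq_comm]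
  have trz : ∀ (z : VV) (j : Fin 3) (a : F), a ≠ 0 → Inc G z (a • f j) → f 2 ⬝ᵥ z ≠ 0 →
      ∃ z', Inc (conjG P G) z' (ev j) ∧ z' 2 ≠ 0 := by
    intro z j a ha hI hz
    refine ⟨(P : MM) *ᵥ (a • z), ?_, by rw [hP, dotProduct_smul]; exact mul_ne_zero ha hz⟩
    have h1 := inc_conjG (P := P) (Inc.smul_right hI ha)
    convert h1 using 1
    funext l
    rw [hP', hdual]
    simp [ev, Pi.single_apply, eq_comm]
  have hf0 : f 0 = (ψ ⬝ᵥ p')⁻¹ • ψ := rfl
  have hf1 : f 1 = (ψ' ⬝ᵥ p)⁻¹ • ψ' := rfl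
  have hf2 : f 2 = (φ ⬝ᵥ e3)⁻¹ • φ := rfl
  have e0 : φ = (φ ⬝ᵥ e3) • f 2 := by rw [hf2, smul_inv_smul₀ hφe3]
  have e1 : ψ = (ψ ⬝ᵥ p') • f 0 := by rw [hf0, smul_inv_smul₀ hψp0]
  have e2 : ψ' = (ψ' ⬝ᵥ p) • f 1 := by rw [hf1, smul_inv_smul₀ hψ'p]
  have h02 := tr 0 2 _ hφe3 (e0 ▸ hp'φ : Inc G p' ((φ ⬝ᵥ e3) • f 2))
  have h12 := tr 1 2 _ hφe3 (e0 ▸ hpφ : Inc G p ((φ ⬝ᵥ e3) • f 2))
  have h01 := tr 0 1 _ (mul_ne_zero hy'a hψ'p) (by rw [← smul_smul, ← e2]; exact hp'ψ)
  have h10 := tr 1 0 _ (mul_ne_zero hya hψp0) (by rw [← smul_smul, ← e1]; exact hpψ)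
  obtain ⟨z, hz, hz2⟩ := trz y 0 _ hψp0 (by rw [← e1]; exact hy)
    (by rw [hf2, smul_dotProduct]; exact mul_ne_zero (inv_ne_zero hφe3) hya)
  obtain ⟨z', hz', hz'2⟩ := trz y' 1 _ hψ'p (by rw [← e2]; exact hy')
    (by rw [hf2, smul_dotProduct]; exact mul_ne_zero (inv_ne_zero hφe3) hy'a)
  have hsplit : ∀ {i j : Fin 3} {c d : F} {w : VV}, i ≠ j → c ≠ 0 → d ≠ 0 → Inc (conjG P G) (c • ev j) (ev i) →
      Inc (conjG P G) (d • ev i) (ev j) → Inc (conjG P G) w (ev i) →
      Inc (conjG P G) (w - w j • ev j) (ev i) := by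
    intro i j c d w hij hc hd hA hB hw
    have := (Opp.mk hA hB (by simpa [ev] using hd) (by simpa [ev] using hc)).split h2 hw
    convert this using 2
    simp [ev, smul_smul, hc]
  have h20 : Inc (conjG P G) ((z 2) • ev 2) (ev 0) := by
    convert hsplit (by decide : (0 : Fin 3) ≠ 1) (mul_ne_zero hya hψp0) (mul_ne_zero hy'a hψ'p) h10 h01 hz using 1
    have hz0 : z 0 = 0 := by simpa [ev] using hz.1
    funext l; fin_cases l <;> simp [ev, hz0]
  have h21 : Inc (conjG P G) ((z' 2) • ev 2) (ev 1) := by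
    convert hsplit (by decide : (1 : Fin 3) ≠ 0) (mul_ne_zero hy'a hψ'p) (mul_ne_zero hya hψp0) h01 h10 hz' using 1
    have hz0 : z' 1 = 0 := by simpa [ev] using hz'.1
    funext l; fin_cases l <;> simp [ev, hz0]
  intro i j hij
  fin_cases i <;> fin_cases j
  · exact absurd rfl hij
  · exact ⟨_, mul_ne_zero hy'a hψ'p, h01⟩
  · exact ⟨_, hφe3, h02⟩
  · exact ⟨_, mul_ne_zero hya hψp0, h10⟩
  · exact absurd rfl hij
  · exact ⟨_, hφe3, h12⟩
  · exact ⟨_, hz2, h20⟩
  · exact ⟨_, hz'2, h21⟩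
  · exact absurd rfl hij

omit [Finite F] in
theorem mul_param {i j l : Fin 3} (hij : i ≠ j) (hjl : j ≠ l) (hil : i ≠ l) {c d : F}
    (hc : Inc G (c • ev i) (ev j)) (hd : Inc G (d • ev j) (ev l)) : Inc G ((c * d) • ev i) (ev l) := by
  have := Inc.comm hc hd (by simp [ev, Ne.symm hil, hil])
  convert this using 1
  rw [smul_smul]
  simp [ev, mul_comm]

theorem Pre.std (hpre : Pre G) (h01 : Inc G ((1 : F) • ev 0) (ev 1)) (h12 : Inc G ((1 : F) • ev 1) (ev 2)) :
    ∃ k : Subfield F, Std G k := by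
  classical
  haveI := Fintype.ofFinite F
  let A : Fin 3 → Fin 3 → AddSubgroup F := fun i j => Hgp G (ev j) (ev i)
  have mA : ∀ {i j : Fin 3} {c : F}, c ∈ A i j ↔ Inc G (c • ev i) (ev j) := Iff.rfl
  have mul : ∀ {i j l : Fin 3}, i ≠ j → j ≠ l → i ≠ l → ∀ {c d : F}, c ∈ A i j → d ∈ A j l → c * d ∈ A i l :=
    fun h1 h2 h3 _ _ hc hd => mul_param h1 h2 h3 hc hd
  have card_le : ∀ {B C : AddSubgroup F} (w : F), w ≠ 0 → (∀ c ∈ B, c * w ∈ C) → Nat.card B ≤ Nat.card C :=
    fun {B C} w hw h => Nat.card_le_card_of_injective (fun c => (⟨(c : F) * w, h c c.2⟩ : C)) fun a b e =>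
      Subtype.ext (mul_right_cancel₀ hw (congrArg Subtype.val e))
  have eq_of : ∀ {B C : AddSubgroup F}, B ≤ C → Nat.card C ≤ Nat.card B → B = C := fun hle hc =>
    AddSubgroup.eq_of_le_of_card_ge hle hc
  obtain ⟨w, hw, hwA⟩ := hpre 2 1 (by decide)
  obtain ⟨v, hv, hvA⟩ := hpre 1 0 (by decide)
  obtain ⟨u', hu, huA⟩ := hpre 2 0 (by decide)
  have e1 : A 0 1 = A 0 2 := by
    refine eq_of (fun c hc => ?_) (card_le w hw fun c hc => mul (by decide) (by decide) (by decide) hc hwA)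
    have h := mul (l := 2) (d := (1 : F)) (by decide) (by decide) (by decide) hc h12
    rwa [mul_one] at h
  have e2 : A 1 2 = A 0 2 := by
    refine eq_of (fun c hc => ?_) (card_le v hv fun c hc => ?_)
    · have h := mul (i := 0) (c := (1 : F)) (by decide) (by decide) (by decide) h01 hc
      rwa [one_mul] at h
    · rw [mul_comm]; exact mul (by decide) (by decide) (by decide) hvA hc
  have hmul : ∀ {a b : F}, a ∈ A 0 2 → b ∈ A 0 2 → a * b ∈ A 0 2 := fun ha hb =>
    mul (j := 1) (by decide) (by decide) (by decide) (e1 ▸ ha) (e2 ▸ hb)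
  have h1 : (1 : F) ∈ A 0 2 := e1 ▸ h01
  let k : Subfield F :=
    { carrier := A 0 2
      mul_mem' := hmul
      one_mem' := h1
      add_mem' := (A 0 2).add_mem
      zero_mem' := (A 0 2).zero_mem
      neg_mem' := (A 0 2).neg_mem
      inv_mem' := fun a ha => by
        rcases eq_or_ne a 0 with rfl | ha0
        · rw [_root_.inv_zero]; exact (A 0 2).zero_mem
        have hp : ∀ n : ℕ, a ^ n ∈ A 0 2 := fun n => by
          induction n with
          | zero => rw [pow_zero]; exact h1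
          | succ n ih => rw [pow_succ]; exact hmul ih ha
        have hc := Fintype.one_lt_card (α := F)
        have : a⁻¹ = a ^ (Fintype.card F - 2) := by
          refine inv_eq_of_mul_eq_one_right ?_
          rw [← pow_succ', show Fintype.card F - 2 + 1 = Fintype.card F - 1 by omega,
            FiniteField.pow_card_sub_one_eq_one a ha0]
        rw [this]; exact hp _ }
  have hk : ∀ {c : F}, c ∈ k ↔ c ∈ A 0 2 := Iff.rfl
  have a10 : ∀ {c : F}, c ∈ A 1 0 → c ∈ k := fun {c} hc => by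
    rw [hk, ← e2]
    simpa using mul (i := 1) (by decide) (by decide) (by decide) hc h1
  have a20 : ∀ {c : F}, c ∈ A 2 0 → c ∈ A 2 1 := fun {c} hc => by
    have h := mul (i := 2) (d := (1 : F)) (by decide) (by decide) (by decide) hc h01
    rwa [mul_one] at h
  have a21 : ∀ {c : F}, c ∈ A 2 1 → c ∈ k := fun {c} hc => by
    rw [hk, ← e1]
    simpa using mul (i := 0) (by decide) (by decide) (by decide) h1 hc
  have b10 : ∀ {c : F}, c ∈ k → c ∈ A 1 0 := fun {c} hc => by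
    have hu' : u' ∈ k := a21 (a20 huA)
    have hq : c * u'⁻¹ ∈ A 1 2 := e2 ▸ hk.1 (k.mul_mem hc (k.inv_mem hu'))
    have := mul (i := 1) (j := 2) (l := 0) (by decide) (by decide) (by decide) hq huA
    rwa [inv_mul_cancel_right₀ hu] at this
  have b20 : ∀ {c : F}, c ∈ k → c ∈ A 2 0 := fun {c} hc => by
    have hq : c * w⁻¹ ∈ A 1 0 := b10 (k.mul_mem hc (k.inv_mem (a21 hwA)))
    have := mul (i := 2) (j := 1) (l := 0) (by decide) (by decide) (by decide) hwA hq
    rwa [mul_comm, inv_mul_cancel_right₀ hw] at this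
  refine ⟨k, fun i j hij c => mA.symm.trans ?_⟩
  fin_cases i <;> fin_cases j <;> first | exact absurd rfl hij | skip
  · exact (by rw [e1]; rfl : c ∈ A 0 1 ↔ c ∈ k)
  · rfl
  · exact ⟨a10, b10⟩
  · exact (by rw [e2]; rfl : c ∈ A 1 2 ↔ c ∈ k)
  · exact ⟨fun h => a21 (a20 h), b20⟩
  · exact ⟨a21, fun h => a20 (b20 h)⟩

theorem Pre.exists_std (hpre : Pre G) : ∃ (P : GG) (k : Subfield F), Std (conjG P G) k := by
  obtain ⟨c, hc, hcA⟩ := hpre 0 1 (by decide)
  obtain ⟨d, hd, hdA⟩ := hpre 1 2 (by decide)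
  set t : Fin 3 → F := ![(c * d)⁻¹, d⁻¹, 1] with ht
  have ht0 : ∀ i, t i ≠ 0 := fun i => by fin_cases i <;> simp [ht, hc, hd]
  have h1 : Matrix.diagonal t * Matrix.diagonal (fun i => (t i)⁻¹) = 1 := by
    rw [diagonal_mul_diagonal, ← diagonal_one]
    congr 1
    funext i
    rw [mul_inv_cancel₀ (ht0 i)]
  let P : GG := ⟨Matrix.diagonal t, _, h1, mul_eq_one_comm.1 h1⟩
  have tr : ∀ {i j : Fin 3} {a : F}, Inc G (a • ev i) (ev j) → Inc (conjG P G) ((a * t i / t j) • ev i) (ev j) := by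
    intro i j a h
    have h' := inc_conjG (P := P) h
    have h1 : Inc (conjG P G) ((a * t i) • ev i) ((t j)⁻¹ • ev j) := by
      convert h' using 1
      · funext l
        simp [P, ev, mulVec_diagonal, Pi.single_apply]
        split <;> simp_all [mul_comm]
      · funext l
        show _ = (ev j ᵥ* Matrix.diagonal (fun i => (t i)⁻¹)) l
        simp [ev, vecMul_diagonal, Pi.single_apply]
        split <;> simp_all
    have h2 := Inc.smul_right h1 (inv_ne_zero (ht0 j))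
    rwa [smul_smul, mul_comm, ← div_eq_mul_inv] at h2
  refine ⟨P, Pre.std (fun i j hij => ?_) ?_ ?_⟩
  · obtain ⟨a, ha, hA⟩ := hpre i j hij
    exact ⟨_, div_ne_zero (mul_ne_zero ha (ht0 i)) (ht0 j), tr hA⟩
  · convert tr hcA using 2
    simp [ht]; field_simp
  · convert tr hdA using 2
    simp [ht]; field_simp

end finite

/-! Rationality. -/

section rat

variable {k : Subfield F}

theorem Std.dual [Fintype F] (hS : Std G k) : Std (G.map dualHom) k := by
  intro i j hij c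
  rcases eq_or_ne c 0 with rfl | hc
  · rw [zero_smul]
    exact iff_of_true ⟨dotProduct_zero _, ⟨1, one_mem _, by simp⟩⟩ k.zero_mem
  · rw [inc_dual_iff, ← hS j i hij.symm c]
    exact ⟨fun h => Inc.smul_right h hc, fun h => Inc.move h hc⟩

theorem Std.axis_rat (hS : Std G k) {y : VV} {l : Fin 3} (h : Inc G y (ev l)) (i : Fin 3) : y i ∈ k := by
  by_cases hil : i = l
  · subst hil
    have : y i = 0 := by simpa [ev] using h.1
    rw [this]
    exact k.zero_mem
  obtain ⟨m, hmi, hml, -⟩ := fin_third i l hil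
  have he : Inc G (ev m) (ev i) := by
    have := (hS m i hmi 1).2 k.one_mem
    rwa [one_smul] at this
  have := Inc.comm he h (by simp [ev, hml, Ne.symm hml])
  refine (hS m l hml (y i)).1 ?_
  simpa [ev] using this

theorem Std.axis_pair (hS : Std G k) {y χ : VV} {l : Fin 3} {c : F} (hχ : χ = c • ev l) (h : Inc G y χ)
    (hc : c ≠ 0) (i j : Fin 3) : y i * χ j ∈ k := by
  have hj : χ j = c * (if l = j then 1 else 0) := by
    rw [hχ]; simp [ev, Pi.single_apply, eq_comm]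
  rw [hj]
  split
  · rw [mul_one]
    have := hS.axis_rat (Inc.smul_right (hχ ▸ h) hc) i
    rwa [Pi.smul_apply, smul_eq_mul, mul_comm] at this
  · rw [mul_zero, mul_zero]; exact k.zero_mem

theorem Std.centre_line [Fintype F] (hS : Std G k) {y χ : VV} {l : Fin 3} (hy : ∀ i, i ≠ l → y i = 0)
    (h : Inc G y χ) (i j : Fin 3) : y i * χ j ∈ k := by
  rcases eq_or_ne (y l) 0 with h0 | h0
  · have : y i = 0 := by
      rcases eq_or_ne i l with rfl | hi
      · exact h0
      · exact hy i hi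
    rw [this, zero_mul]; exact k.zero_mem
  have hy' : y = y l • ev l := by
    funext m
    rcases eq_or_ne m l with rfl | hm
    · simp [ev]
    · simp [ev, hm, hy m hm]
  rw [mul_comm]
  exact hS.dual.axis_pair hy' (inc_dual h) h0 j i

/-- An elation whose centre is rational up to a scalar is rational. -/
theorem Std.centre_rat [Fintype F] (hS : Std G k) {y χ v : VV} {μ : F} {l : Fin 3} (hy : y = μ • v)
    (hv : ∀ i, v i ∈ k) (hl : v l ≠ 0) (h : Inc G y χ) (i j : Fin 3) : y i * χ j ∈ k := by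
  set w : VV := fun m => if m = l then 0 else -(v m / v l) with hw
  obtain ⟨g, hg, hgv⟩ : One G w (ev l) := by
    refine (mem_Bgp.1 (?_ : w ∈ Bgp G (ev l))).2
    rw [← Finset.univ_sum_single w]
    refine (Bgp G (ev l)).sum_mem fun m _ => ?_
    rcases eq_or_ne m l with rfl | hm
    · simp [hw]
    · have : Pi.single m (w m) = w m • (ev m : VV) := by
        funext t; simp [ev, Pi.single_apply]
      rw [this, mem_Bgp, hS m l hm]
      simp only [hw, if_neg hm]
      exact k.neg_mem (k.div_mem (hv m) (hv l))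
  have h' := h.conj hg
  have hgy : (g : MM) *ᵥ y = (μ * v l) • ev l := by
    rw [hgv, one_mulVec', hy]
    funext m
    rcases eq_or_ne m l with rfl | hm
    · simp [ev, hw]
    · simp [ev, hw, hm]; field_simp; ring
  rw [hgy] at h'
  have hw0 : (ev l : VV) ⬝ᵥ w = 0 := by simp [ev, hw]
  have hginv : ((g⁻¹ : GG) : MM) = 1 + vecMulVec w (-(ev l)) := by
    rw [Matrix.coe_units_inv, hgv]
    refine Matrix.inv_eq_right_inv ?_
    rw [one_mul_one, hw0, zero_smul, zero_vecMulVec, add_zero, vecMulVec_neg]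
    abel
  have key : ∀ m, m ≠ l → μ * χ m ∈ k := fun m hm => by
    have := hS.centre_line (l := l) (fun t ht => by simp [ev, ht]) h' l m
    rw [hginv, vecMul_one'] at this
    simp [ev, hm] at this
    rw [show μ * χ m = μ * v l * χ m / v l by field_simp]
    exact k.div_mem this (hv l)
  have hall : ∀ m, μ * χ m ∈ k := fun m => by
    by_cases hm : m = l
    swap
    · exact key m hm
    subst hm
    have h0 : μ * χ m = -(∑ t ∈ Finset.univ.erase m, (μ * χ t) * v t) / v m := by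
      have := h.1
      rw [hy, dotProduct_smul, smul_eq_mul, dotProduct, ← Finset.add_sum_erase _ _ (Finset.mem_univ m),
        mul_add, Finset.mul_sum] at this
      rw [eq_div_iff hl, eq_neg_iff_add_eq_zero, ← this]
      exact congrArg₂ (· + ·) (by ring) (Finset.sum_congr rfl fun t _ => by ring)
    rw [h0]
    exact k.div_mem (k.neg_mem (k.sum_mem fun t ht => k.mul_mem (key t (Finset.ne_of_mem_erase ht)) (hv t)))
      (hv m)
  rw [hy, Pi.smul_apply, smul_eq_mul, mul_comm μ, mul_assoc]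
  exact k.mul_mem (hv i) (hall j)

theorem Std.coord_zero [Fintype F] (hS : Std G k) {y χ : VV} {l : Fin 3} (hl : y l = 0) (h : Inc G y χ)
    (i j : Fin 3) : y i * χ j ∈ k := by
  rcases eq_or_ne y 0 with rfl | hy0
  · simp [k.zero_mem]
  by_cases hχ : ∃ m, m ≠ l ∧ χ m ≠ 0
  · obtain ⟨m, hml, hm⟩ := hχ
    have hem : Inc G (ev m) (ev l) := by
      have := (hS m l hml 1).2 k.one_mem
      rwa [one_smul] at this
    have h' := Inc.comm h hem (by simp [ev, hl])
    have hr : ∀ t, (χ m • y) t ∈ k := fun t => by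
      have := hS.axis_rat h' t
      simpa [ev] using this
    obtain ⟨t, ht⟩ := Function.ne_iff.1 hy0
    exact hS.centre_rat (μ := (χ m)⁻¹) (l := t) (by rw [inv_smul_smul₀ hm]) hr
      (mul_ne_zero hm ht) h i j
  · push Not at hχ
    rcases eq_or_ne (χ l) 0 with h0 | h0
    · have : χ j = 0 := by
        rcases eq_or_ne j l with rfl | hj
        · exact h0
        · exact hχ j hj
      rw [this, mul_zero]; exact k.zero_mem
    refine hS.axis_pair (l := l) ?_ h h0 i j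
    funext m
    rcases eq_or_ne m l with rfl | hm
    · simp [ev]
    · simp [ev, hm, hχ m hm]

theorem Std.rat [Fintype F] (h2 : (2 : F) ≠ 0) (hS : Std G k) {y χ : VV} (h : Inc G y χ) (i j : Fin 3) :
    y i * χ j ∈ k := by
  by_cases hy : ∃ l, y l = 0
  · exact hS.coord_zero hy.choose_spec h i j
  by_cases hχ : ∃ l, χ l = 0
  · rw [mul_comm]
    exact hS.dual.coord_zero hχ.choose_spec (inc_dual h) j i
  push Not at hy hχ
  have h01 : Inc G (ev 0) (ev 1) := by
    have := (hS 0 1 (by decide) 1).2 k.one_mem; rwa [one_smul] at this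
  have h10 : Inc G (ev 1) (ev 0) := by
    have := (hS 1 0 (by decide) 1).2 k.one_mem; rwa [one_smul] at this
  obtain ⟨g, hg, hgv, hgg⟩ := (Opp.mk h01 h10 (by simp [ev]) (by simp [ev])).neg_mem h2
  have hgi : (g⁻¹ : GG) = g := inv_eq_of_mul_eq_one_right hgg
  have h' : Inc G ![-y 0, -y 1, y 2] ![-χ 0, -χ 1, χ 2] := by
    convert h.conj hg using 1
    · rw [hgv]
      funext m
      fin_cases m <;> simp [ev, sub_mulVec, smul_mulVec, vecMulVec_mulVec] <;> ring
    · rw [hgi, hgv]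
      funext m
      fin_cases m <;> simp [ev, vecMul_sub, vecMul_smul, vecMul_vecMulVec] <;> ring
  have hsum : χ 0 * y 0 + χ 1 * y 1 + χ 2 * y 2 = 0 := by
    have := h.1
    simpa [dotProduct, Fin.sum_univ_three] using this
  have ha : χ ⬝ᵥ ![-y 0, -y 1, y 2] = 2 * (χ 2 * y 2) := by
    simp [dotProduct, Fin.sum_univ_three]; linear_combination -hsum
  have hb : ![-χ 0, -χ 1, χ 2] ⬝ᵥ y = 2 * (χ 2 * y 2) := by
    simp [dotProduct, Fin.sum_univ_three]; linear_combination -hsum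
  have hne : (2 : F) * (χ 2 * y 2) ≠ 0 := mul_ne_zero h2 (mul_ne_zero (hχ 2) (hy 2))
  obtain ⟨g', hg', hgv', hgg'⟩ := (Opp.mk h h' (by rwa [ha]) (by rwa [hb])).neg_mem h2
  have hgi' : (g'⁻¹ : GG) = g' := inv_eq_of_mul_eq_one_right hgg'
  rw [ha, hb] at hgv'
  have h02 : Inc G (ev 0) (ev 2) := by
    have := (hS 0 2 (by decide) 1).2 k.one_mem; rwa [one_smul] at this
  set s := 2 * χ 0 / (χ 2 * y 2) with hs
  have h3 : Inc G ![-1 - s * y 0, -(s * y 1), 0] (ev 2) := by
    have hc := Inc.neg (Inc.neg' (h02.conj hg'))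
    rw [hgi', hgv', sub_mulVec, sub_mulVec, one_mulVec, smul_mulVec, smul_mulVec, vecMulVec_mulVec,
      vecMulVec_mulVec, op_smul_eq_smul, op_smul_eq_smul, vecMul_sub, vecMul_sub, vecMul_one, vecMul_smul,
      vecMul_smul, vecMul_vecMulVec, vecMul_vecMulVec] at hc
    have hy2 := hy 2
    have hχ2 := hχ 2
    convert hc using 1
    · rw [hs]
      funext m
      fin_cases m <;> simp [ev, Matrix.vecHead, Matrix.vecTail, Pi.single_apply] <;> field_simp <;> ring
    · funext m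
      fin_cases m <;> simp [ev, Matrix.vecHead, Matrix.vecTail, Pi.single_apply] <;> field_simp <;> ring
  have r0 : s * y 0 ∈ k := by
    have := k.sub_mem (k.neg_mem k.one_mem) (hS.axis_rat h3 0)
    simpa using this
  have r1 : s * y 1 ∈ k := by
    have := k.neg_mem (hS.axis_rat h3 1)
    simpa using this
  have hs0 : s ≠ 0 := div_ne_zero (mul_ne_zero h2 (hχ 0)) (mul_ne_zero (hχ 2) (hy 2))
  set ρ := y 0 / y 1 with hρdef
  have hρ : ρ ∈ k := by
    rw [hρdef, ← mul_div_mul_left _ _ hs0]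
    exact k.div_mem r0 r1
  obtain ⟨t, ht, htv⟩ := ((hS 0 1 (by decide) (-ρ)).2 (k.neg_mem hρ)).2
  have hti : ((t⁻¹ : GG) : MM) = 1 + vecMulVec (ρ • ev 0) (ev 1) := by
    rw [Matrix.coe_units_inv, htv]
    refine Matrix.inv_eq_right_inv ?_
    rw [one_mul_one]
    simp [ev, add_assoc, ← add_vecMulVec]
  have h4 := h.conj ht
  have hy0 : ((t : MM) *ᵥ y) 0 = 0 := by
    rw [htv, one_mulVec']
    simp [ev, hρdef]
    field_simp [hy 1]
    ring
  have key := hS.coord_zero hy0 h4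
  rw [htv, hti, one_mulVec', vecMul_one'] at key
  have key' : ∀ a : Fin 3, a ≠ 0 → ∀ b : Fin 3, y a * χ b ∈ k := by
    intro a ha0 b
    have hbne : ∀ b : Fin 3, b ≠ 1 → y a * χ b ∈ k := fun b hb => by
      have := key a b
      simpa [ev, ha0, hb, Pi.single_apply] using this
    by_cases hb : b = 1
    · subst hb
      have h5 := key a 1
      simp [ev, ha0, Pi.single_apply] at h5
      have h6 := hbne 0 (by decide)
      have := k.sub_mem h5 (k.mul_mem hρ h6)
      convert this using 1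
      ring
    · exact hbne b hb
  by_cases hi : i = 0
  · subst hi
    have : y 0 * χ j = ρ * (y 1 * χ j) := by
      have hy1 := hy 1
      rw [hρdef]; field_simp
    rw [this]
    exact k.mul_mem hρ (key' 1 (by decide) j)
  · exact key' i hi j

end rat

/-! Identification. -/

/-- Matrices over a subfield. -/
abbrev subMap (k : Subfield F) : GL (Fin 3) k →* GG := Matrix.GeneralLinearGroup.map k.subtype

theorem subMap_val (k : Subfield F) (g : GL (Fin 3) k) :
    ((subMap k g : GG) : MM) = (g : Matrix (Fin 3) (Fin 3) k).map k.subtype := rfl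

theorem map_one_vecMulVec (k : Subfield F) (a b : Fin 3 → k) :
    (1 + vecMulVec a b).map k.subtype = 1 + vecMulVec (fun i => (a i : F)) (fun i => (b i : F)) := by
  ext i j
  by_cases h : i = j <;> simp [vecMulVec_apply, Matrix.one_apply, h]

theorem rat_lift (k : Subfield F) {x φ : VV} (h0 : φ ⬝ᵥ x = 0) (hr : ∀ i j, x i * φ j ∈ k) {g : GG}
    (hg : (g : MM) = 1 + vecMulVec x φ) : g ∈ (Cfsg.Geo.specialLinear (Fin 3) k).map (subMap k) := by
  set M : Matrix (Fin 3) (Fin 3) k := 1 + Matrix.of fun i j => ⟨x i * φ j, hr i j⟩ with hMdef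
  have hM : M.map k.subtype = (g : MM) := by
    rw [hg]
    ext i j
    by_cases h : i = j <;> simp [hMdef, vecMulVec_apply, Matrix.one_apply, h]
  have hd : M.det = 1 := by
    refine k.subtype.injective ?_
    rw [RingHom.map_det, RingHom.mapMatrix_apply, hM, hg, det_one', h0, add_zero, map_one]
  refine ⟨Matrix.GeneralLinearGroup.mkOfDetNeZero M (by rw [hd]; exact one_ne_zero), ?_, Units.ext hM⟩
  rw [Cfsg.Geo.specialLinear, SetLike.mem_coe, MonoidHom.mem_ker]
  exact Units.ext (by rw [Matrix.GeneralLinearGroup.val_det_apply]; exact hd)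

theorem Std.transGen_eq [Fintype F] (h2 : (2 : F) ≠ 0) {k : Subfield F} (hS : Std G k) :
    transGen G = (Cfsg.Geo.specialLinear (Fin 3) k).map (subMap k) := by
  refine le_antisymm ((Subgroup.closure_le _).2 ?_) ?_
  · rintro g ⟨hg, x, φ, h0, hv⟩
    exact rat_lift k h0 (fun i j => hS.rat h2 ⟨h0, g, hg, hv⟩ i j) hv
  · rw [Subgroup.map_le_iff_le_comap]
    refine specialLinear_le fun i j hij c => ?_
    obtain ⟨g, hg, hgv⟩ := (inc_transGen.2 ((hS i j hij (c : F)).2 c.2)).2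
    have hd : (1 : k) + (Pi.single j 1 : Fin 3 → k) ⬝ᵥ Pi.single i c ≠ 0 := by
      simp [hij, Ne.symm hij]
    refine ⟨mkGL _ _ hd, ?_, mkGL_val _ _ hd⟩
    rw [Subgroup.mem_comap]
    convert hg using 1
    refine Units.ext ?_
    rw [subMap_val, mkGL_val, map_one_vecMulVec, hgv]
    congr 2
    · funext m; simp [ev, Pi.single_apply]; split <;> simp
    · funext m; simp [ev, Pi.single_apply]; split <;> simp

/-- With two centres on one axis the transvections generate the special linear group of a subfield. -/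
theorem Many.linear [Fintype F] (h2 : (2 : F) ≠ 0) (hirr : Irr G) (hM : Many G) :
    ∃ (P : GG) (k : Subfield F), conjG P (transGen G) = (Cfsg.Geo.specialLinear (Fin 3) k).map (subMap k) := by
  obtain ⟨P, hP⟩ := hM.pre h2 hirr
  obtain ⟨Q, k, hk⟩ := hP.exists_std
  refine ⟨Q * P, k, ?_⟩
  rw [← transGen_conjG, ← hk.transGen_eq h2]
  congr 1
  rw [conjG, conjG, conjG, Subgroup.map_map]
  congr 1
  ext g
  simp [mul_assoc]

end Cfsg.Lib.MitchellThree.Elation
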