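import Cfsg.Agent.MitchellThree.Elation.Linear

/-!
When no axis carries two centres any two centres are opposite and each pair determines a subfield.
-/

set_option autoImplicit false
set_option linter.unusedSectionVars false
set_option linter.unusedSimpArgs false
set_option linter.style.haveILetI false

namespace Cfsg.Lib.MitchellThree.Elation

open Matrix Cfsg.Lib.Classical Cfsg.Lib.Classical.LinOne Cfsg.Lib.Classical.SLThree
  Cfsg.Lib.Classical.SLThree.Elation Cfsg.Lib.Classical.SLThree.Singer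
open scoped MatrixGroups

universe u

variable {F : Type u} [Field F] {G : Subgroup (GL (Fin 3) F)}

local notation "MM" => Matrix (Fin 3) (Fin 3) F
local notation "GG" => GL (Fin 3) F
local notation "VV" => (Fin 3 → F)

/-- Every axis has one centre and every centre one axis. -/
structure One2One (G : Subgroup (GL (Fin 3) F)) : Prop where
  centre : ∀ x x' φ, x ≠ 0 → φ ≠ 0 → Inc G x φ → Inc G x' φ → ∃ a : F, x' = a • x
  axis : ∀ x φ ψ, x ≠ 0 → φ ≠ 0 → Inc G x φ → Inc G x ψ → ∃ a : F, ψ = a • φ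

theorem one2one_of_not_many [Fintype F] (h2 : (2 : F) ≠ 0) (hirr : Irr G) (hM : ¬ Many G) : One2One G := by
  refine ⟨fun x x' φ hx hφ h h' => ?_, fun x φ ψ hx hφ h h' => ?_⟩
  · by_contra hc
    push Not at hc
    exact hM ⟨φ, x, x', hφ, hx, h, h', hc⟩
  · by_contra hc
    push Not at hc
    have := Many.dual h2 (irr_dualHom hirr) (⟨x, φ, ψ, hx, hφ, inc_dual h, inc_dual h', hc⟩ : Many (G.map dualHom))
    rw [map_dual_dual] at this
    exact hM this

theorem One2One.opp (hU : One2One G) {x φ y ψ : VV} (hx : x ≠ 0) (hφ : φ ≠ 0) (hy : y ≠ 0) (hψ : ψ ≠ 0)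
    (h : Inc G x φ) (h' : Inc G y ψ) (hne : ∀ a : F, y ≠ a • x) : Opp G x φ y ψ := by
  have key : ∀ {x φ y ψ : VV}, x ≠ 0 → φ ≠ 0 → y ≠ 0 → ψ ≠ 0 → Inc G x φ → Inc G y ψ →
      (∀ a : F, y ≠ a • x) → φ ⬝ᵥ y ≠ 0 := by
    intro x φ y ψ hx hφ hy hψ h h' hne h0
    by_cases hψx : ψ ⬝ᵥ x = 0
    · have hψφ : ∀ a : F, ψ ≠ a • φ := fun a e => by
        have ha : a ≠ 0 := fun e0 => hψ (by rw [e, e0, zero_smul])
        obtain ⟨b, hb⟩ := hU.centre x _ φ hx hφ h (Inc.smul_right (e ▸ h') ha)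
        exact hne (a⁻¹ * b) (by rw [← smul_smul, ← hb, inv_smul_smul₀ ha])
      obtain ⟨a, ha⟩ := kernel_line hφ hψφ hx h.1 hψx h0 h'.1
      exact hne a ha
    · have hc : -(ψ ⬝ᵥ x) ≠ 0 := neg_ne_zero.2 hψx
      obtain ⟨b, hb⟩ := hU.centre x _ φ hx hφ h (Inc.smul_right (Inc.comm' h h' h0) hc)
      exact hne ((-(ψ ⬝ᵥ x))⁻¹ * b) (by rw [← smul_smul, ← hb, inv_smul_smul₀ hc])
  refine ⟨h, h', key hx hφ hy hψ h h' hne, key hy hψ hx hφ h' h fun a e => ?_⟩
  have ha : a ≠ 0 := fun e0 => hx (by rw [e, e0, zero_smul])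
  exact hne a⁻¹ (by rw [e, inv_smul_smul₀ ha])

/-- An elation all of whose parameters square to one. -/
def Small (G : Subgroup (GL (Fin 3) F)) (x φ : Fin 3 → F) : Prop :=
  ∀ c : F, Inc G (c • x) φ → c = 0 ∨ c ^ 2 = 1

theorem Small.conj {x φ : VV} (hs : Small G x φ) {g : GG} (hg : g ∈ G) :
    Small G ((g : MM) *ᵥ x) (φ ᵥ* ((g⁻¹ : GG) : MM)) := fun c hc => by
  refine hs c ?_
  have := hc.conj (G.inv_mem hg)
  rwa [← mulVec_smul, inv_inv, mulVec_mulVec, vecMul_vecMul, ← Units.val_mul, inv_mul_cancel, Units.val_one,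
    one_mulVec, vecMul_one] at this

variable [Finite F]

theorem Small.prod (h2 : (2 : F) ≠ 0) {x φ y ψ : VV} (hs : Small G x φ) (P : Opp G x φ y ψ) :
    ((φ ⬝ᵥ y) * (ψ ⬝ᵥ x)) ^ 4 = 1 := by
  by_cases h : (3 : F) = 0 ∧ ((φ ⬝ᵥ y) * (ψ ⬝ᵥ x)) ^ 2 = -1
  · linear_combination (((φ ⬝ᵥ y) * (ψ ⬝ᵥ x)) ^ 2 - 1) * h.2
  · have hc := (hs _ (P.field h2 h (Subfield.subset_closure rfl)).1).resolve_left (mul_ne_zero P.ha P.hb)
    linear_combination (((φ ⬝ᵥ y) * (ψ ⬝ᵥ x)) ^ 2 + 1) * hc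

/-- A small exceptional pair is impossible in an irreducible group. -/
theorem bad_false [Fintype F] (h2 : (2 : F) ≠ 0) (hirr : Irr G) (hU : One2One G) {x φ y ψ : VV}
    (P : Opp G x φ y ψ) (h3 : (3 : F) = 0) (hπ : ((φ ⬝ᵥ y) * (ψ ⬝ᵥ x)) ^ 2 = -1) (hs : Small G x φ) : False := by
  classical
  have hx : x ≠ 0 := fun e => P.hb (by rw [e, dotProduct_zero])
  have hφ : φ ≠ 0 := fun e => P.ha (by rw [e, zero_dotProduct])
  obtain ⟨m, hm, hmx, hmy⟩ := exists_pair x y
  rw [dotProduct_comm] at hmx hmy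
  obtain ⟨w, η, hw, hη, hI, hmw⟩ := exists_centre hirr hx hφ P.hg hm
  set a := φ ⬝ᵥ y with ha
  set b := ψ ⬝ᵥ x with hb
  set l := a * b with hl
  let Pt : F → F → Prop := fun α γ => (α • x + (γ * b) • y ≠ 0) ∧ (α • φ - (γ * a) • ψ ≠ 0) ∧
    Inc G (α • x + (γ * b) • y) (α • φ - (γ * a) • ψ) ∧ Small G (α • x + (γ * b) • y) (α • φ - (γ * a) • ψ)
  have hstart : Pt 1 0 := by
    simp only [Pt, one_smul, zero_mul, zero_smul, add_zero, sub_zero]
    exact ⟨hx, hφ, P.hg, hs⟩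
  obtain ⟨g, hg, hgv⟩ := P.hg.2
  obtain ⟨h, hh, hhv⟩ := P.hh.2
  have hinv : ∀ {z χ : VV} {t : GG}, χ ⬝ᵥ z = 0 → (t : MM) = 1 + vecMulVec z χ →
      ((t⁻¹ : GG) : MM) = 1 + vecMulVec z (-χ) := fun {z χ t} h0 ht => by
    rw [Matrix.coe_units_inv, ht]
    refine Matrix.inv_eq_right_inv ?_
    rw [one_mul_one, h0, zero_smul, zero_vecMulVec, add_zero, vecMulVec_neg]
    abel
  have step : ∀ {t : GG}, t ∈ G → ∀ {α γ α' γ' : F},
      ((t : MM) *ᵥ (α • x + (γ * b) • y) = α' • x + (γ' * b) • y) →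
      ((α • φ - (γ * a) • ψ) ᵥ* ((t⁻¹ : GG) : MM) = α' • φ - (γ' * a) • ψ) → Pt α γ → Pt α' γ' := by
    rintro t ht α γ α' γ' e1 e2 ⟨h1, h1', h3, h4⟩
    simp only [Pt, ← e1, ← e2]
    exact ⟨GL_ne_zero_mulVec t h1, GL_ne_zero_vecMul _ h1', h3.conj ht, h4.conj ht⟩
  have hG : ∀ {α γ : F}, Pt α γ → Pt (α + l * γ) γ := fun {α γ} hp => by
    refine step hg ?_ ?_ hp
    · rw [hgv, one_mulVec', dotProduct_add, dotProduct_smul, dotProduct_smul, P.hg.1, ← ha, hl]
      simp only [smul_eq_mul]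
      module
    · rw [hinv P.hg.1 hgv, vecMul_one', sub_dotProduct, smul_dotProduct, smul_dotProduct, P.hg.1, ← hb, hl]
      simp only [smul_eq_mul]
      module
  have hH : ∀ {α γ : F}, Pt α γ → Pt α (γ + α) := fun {α γ} hp => by
    refine step hh ?_ ?_ hp
    · rw [hhv, one_mulVec', dotProduct_add, dotProduct_smul, dotProduct_smul, P.hh.1, ← hb]
      simp only [smul_eq_mul]
      module
    · rw [hinv P.hh.1 hhv, vecMul_one', sub_dotProduct, smul_dotProduct, smul_dotProduct, P.hh.1, ← ha]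
      simp only [smul_eq_mul]
      module
  set Pp := φ ⬝ᵥ w with hPp
  set R := a * (ψ ⬝ᵥ w) with hR
  set S := η ⬝ᵥ x with hS
  set T := b * (η ⬝ᵥ y) with hT
  have hval : ∀ {α γ : F}, Pt α γ → ((α * Pp - γ * R) * (α * S + γ * T)) ^ 4 = 1 := by
    rintro α γ ⟨h1, h1', h3, h4⟩
    have hP := hU.opp h1 h1' hw hη h3 hI fun c e => hmw (by
      rw [e, dotProduct_smul, dotProduct_add, dotProduct_smul, dotProduct_smul, hmx, hmy]
      simp)
    have := h4.prod h2 hP
    rw [sub_dotProduct, smul_dotProduct, smul_dotProduct, dotProduct_add, dotProduct_smul, dotProduct_smul,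
      ← hPp, ← hS] at this
    simp only [smul_eq_mul] at this
    rw [← this, hR, hT]
    ring
  have hwne : ∀ c : F, w ≠ c • x := fun c e => hmw (by rw [e, dotProduct_smul, hmx, smul_zero])
  have hPS : Pp * S ≠ 0 := mul_ne_zero (hU.opp hx hφ hw hη P.hg hI hwne).ha
    (hU.opp hx hφ hw hη P.hg hI hwne).hb
  let q : Polynomial F := (Polynomial.C (Pp * S) * Polynomial.X ^ 2 +
    Polynomial.C (Pp * T - R * S) * Polynomial.X + Polynomial.C (-(R * T))) ^ 4 - 1
  have hdeg : q.natDegree = 8 := by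
    simp only [q]
    rw [← Polynomial.C_1, Polynomial.natDegree_sub_C, Polynomial.natDegree_pow,
      Polynomial.natDegree_quadratic hPS]
  haveI : CharP F 3 := (CharP.charP_iff_prime_eq_zero Nat.prime_three).2 (by exact_mod_cast h3)
  let pt : Fin 3 × Fin 3 → F := fun s => ((s.1 : ℕ) : F) + ((s.2 : ℕ) : F) * l
  have hinj : Function.Injective pt := by
    have dec : ∀ s t : Fin 3 × Fin 3, (3 : ℤ) ∣ (((s.1 : ℕ) : ℤ) - (t.1 : ℕ)) ^ 2 + (((s.2 : ℕ) : ℤ) - (t.2 : ℕ)) ^ 2 →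
        s = t := by decide
    intro s t e
    refine dec s t ((CharP.intCast_eq_zero_iff F 3 _).1 ?_)
    simp only [pt] at e
    push_cast
    linear_combination ((((s.1 : ℕ) : F) - (t.1 : ℕ)) - (((s.2 : ℕ) : F) - (t.2 : ℕ)) * l) * e +
      (((s.2 : ℕ) : F) - (t.2 : ℕ)) ^ 2 * hπ
  have hit : ∀ {α γ x₀ μ : F}, Pt α γ → μ ^ 8 = 1 → α = μ * x₀ → γ = μ → q.eval x₀ = 0 := by
    rintro α γ x₀ μ hp hμ rfl rfl
    have := hval hp
    simp only [q, Polynomial.eval_sub, Polynomial.eval_pow, Polynomial.eval_add, Polynomial.eval_mul,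
      Polynomial.eval_C, Polynomial.eval_X, Polynomial.eval_one]
    linear_combination this - ((Pp * S) * x₀ ^ 2 + (Pp * T - R * S) * x₀ + -(R * T)) ^ 4 * hμ
  have hl8 : (2 + l) ^ 8 = 1 := by
    have e2 : (2 + l) ^ 2 = l := by linear_combination hπ + (l + 1) * h3
    linear_combination ((2 + l) ^ 6 + (2 + l) ^ 4 * l + (2 + l) ^ 2 * l ^ 2 + l ^ 3) * e2 + (l ^ 2 - 1) * hπ
  have h28 : (2 : F) ^ 8 = 1 := by linear_combination (85 : F) * h3
  have p1 := hH hstart
  rw [zero_add] at p1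
  have p2 := hG p1
  have p3 := hG p2
  have p4 := hH p1
  have p5 := hG p4
  have p6 := hG p5
  have p7 := hH p2
  have p8 := hG p7
  have p9 := hG p8
  have hroots : ∀ s : Fin 3 × Fin 3, q.eval (pt s) = 0 := by
    rintro ⟨i, j⟩
    fin_cases i <;> fin_cases j <;> simp only [pt] <;> norm_num
    · exact hit p8 hl8 (by linear_combination hπ + l * h3) (by ring)
    · exact hit p9 hl8 (by linear_combination hπ + l * h3) (by ring)
    · exact hit p7 hl8 (by linear_combination (-2 : F) * hπ + (1 - l) * h3) (by ring)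
    · exact hit p1 (one_pow 8) (by ring) rfl
    · exact hit p2 (one_pow 8) (by ring) rfl
    · exact hit p3 (one_pow 8) (by ring) rfl
    · exact hit p4 h28 (by linear_combination -h3) (by ring)
    · exact hit p5 h28 (by linear_combination -h3) (by ring)
    · exact hit p6 h28 (by linear_combination -h3) (by ring)
  have hq0 : q = 0 := Polynomial.eq_zero_of_natDegree_lt_card_of_eval_eq_zero q hinj hroots (by
    rw [hdeg]; decide)
  rw [hq0, Polynomial.natDegree_zero] at hdeg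
  omega

theorem exists_sq_sub (h2 : (2 : F) ≠ 0) (c : F) : ∃ d e : F, c = d * d - e * e ∧
    ∀ K : Subfield F, c ∈ K → d ∈ K ∧ e ∈ K :=
  ⟨(c + 1) / 2, (c - 1) / 2, by field_simp; ring, fun K h =>
    ⟨K.div_mem (K.add_mem h K.one_mem) (by exact_mod_cast natCast_mem K 2),
      K.div_mem (K.sub_mem h K.one_mem) (by exact_mod_cast natCast_mem K 2)⟩⟩

/-- A pair of opposite elations determines a subfield. -/
theorem One2One.pair [Fintype F] (h2 : (2 : F) ≠ 0) (hirr : Irr G) (hU : One2One G) {x φ y ψ : VV}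
    (P : Opp G x φ y ψ) :
    ∃ M : Subfield F, (φ ⬝ᵥ y) * (ψ ⬝ᵥ x) ∈ M ∧ (∀ c, Inc G (c • x) φ ↔ c ∈ M) ∧
      (∀ c, Inc G (c • y) ψ ↔ c ∈ M) := by
  classical
  set π := (φ ⬝ᵥ y) * (ψ ⬝ᵥ x) with hπdef
  let A := Hgp G φ x
  let B := Hgp G ψ y
  have hA1 : (1 : F) ∈ A := by rw [mem_Hgp, one_smul]; exact P.hg
  have hB1 : (1 : F) ∈ B := by rw [mem_Hgp, one_smul]; exact P.hh
  let Z : F → Prop := fun c => (∀ a ∈ A, c * a ∈ A) ∧ ∀ b ∈ B, c * b ∈ B
  have Zpow : ∀ {c}, Z c → ∀ n : ℕ, Z (c ^ n) := fun {c} hc n => by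
    induction n with
    | zero => exact ⟨fun a h => by simpa using h, fun b h => by simpa using h⟩
    | succ n ih =>
      exact ⟨fun a h => by rw [pow_succ, mul_assoc]; exact ih.1 _ (hc.1 a h),
        fun b h => by rw [pow_succ, mul_assoc]; exact ih.2 _ (hc.2 b h)⟩
  let M : Subfield F :=
    { carrier := {c | Z c}
      one_mem' := ⟨fun a h => by rwa [one_mul], fun b h => by rwa [one_mul]⟩
      mul_mem' := fun {c d} hc hd => ⟨fun a h => by rw [mul_assoc]; exact hc.1 _ (hd.1 a h),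
        fun b h => by rw [mul_assoc]; exact hc.2 _ (hd.2 b h)⟩
      add_mem' := fun {c d} hc hd => ⟨fun a h => by rw [add_mul]; exact A.add_mem (hc.1 a h) (hd.1 a h),
        fun b h => by rw [add_mul]; exact B.add_mem (hc.2 b h) (hd.2 b h)⟩
      zero_mem' := ⟨fun a _ => by rw [zero_mul]; exact A.zero_mem, fun b _ => by rw [zero_mul]; exact B.zero_mem⟩
      neg_mem' := fun {c} hc => ⟨fun a h => by rw [neg_mul]; exact A.neg_mem (hc.1 a h),
        fun b h => by rw [neg_mul]; exact B.neg_mem (hc.2 b h)⟩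
      inv_mem' := fun c hc => by
        rcases eq_or_ne c 0 with rfl | hc0
        · rw [_root_.inv_zero]; exact hc
        have h1 := Fintype.one_lt_card (α := F)
        have : c⁻¹ = c ^ (Fintype.card F - 2) := by
          refine inv_eq_of_mul_eq_one_right ?_
          rw [← pow_succ', show Fintype.card F - 2 + 1 = Fintype.card F - 1 by omega,
            FiniteField.pow_card_sub_one_eq_one c hc0]
        rw [this]; exact Zpow hc _ }
  have mM : ∀ {c}, c ∈ M ↔ Z c := Iff.rfl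
  have good : ∀ {a b : F}, a ∈ A → b ∈ B → a ≠ 0 → b ≠ 0 → ¬ ((3 : F) = 0 ∧ (a * b * π) ^ 2 = -1) →
      a * b * π ∈ M := by
    intro a b ha hb ha0 hb0 hne
    have hP : Opp G (a • x) φ (b • y) ψ :=
      ⟨ha, hb, by rw [dotProduct_smul]; exact mul_ne_zero hb0 P.ha, by rw [dotProduct_smul]; exact mul_ne_zero ha0 P.hb⟩
    have hprod : (φ ⬝ᵥ (b • y)) * (ψ ⬝ᵥ (a • x)) = a * b * π := by
      rw [dotProduct_smul, dotProduct_smul, hπdef, smul_eq_mul, smul_eq_mul]; ring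
    set K := Subfield.closure ({(φ ⬝ᵥ (b • y)) * (ψ ⬝ᵥ (a • x))} : Set F)
    have sq : ∀ d ∈ K, (∀ a' ∈ A, d * d * a' ∈ A) ∧ ∀ b' ∈ B, d * d * b' ∈ B := by
      intro d hd
      rcases eq_or_ne d 0 with rfl | hd0
      · simp [A.zero_mem, B.zero_mem]
      obtain ⟨t, ht, e1, e2, e3, e4⟩ := (hP.field h2 (by rw [hprod]; exact hne) hd).2.2 hd0
      refine ⟨fun a' ha' => ?_, fun b' hb' => ?_⟩
      · have h' := (mem_Hgp.1 ha').conj ht
        have e1' : (t : MM) *ᵥ x = d • x := by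
          rw [mulVec_smul, smul_comm] at e1
          exact smul_right_injective VV ha0 e1
        rw [e2, mulVec_smul, e1', smul_smul] at h'
        have := Inc.smul_right h' hd0
        rwa [smul_smul, ← mem_Hgp, show d * (a' * d) = d * d * a' by ring] at this
      · obtain ⟨t, ht, e1, e2, e3, e4⟩ := (hP.field h2 (by rw [hprod]; exact hne) (K.inv_mem hd)).2.2 (inv_ne_zero hd0)
        have h' := (mem_Hgp.1 hb').conj ht
        have e3' : (t : MM) *ᵥ y = d • y := by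
          rw [mulVec_smul, smul_comm, inv_inv] at e3
          exact smul_right_injective VV hb0 e3
        rw [e4, inv_inv, mulVec_smul, e3', smul_smul] at h'
        have := Inc.smul_right h' hd0
        rwa [smul_smul, ← mem_Hgp, show d * (b' * d) = d * d * b' by ring] at this
    obtain ⟨d, e, hde, hdK⟩ := exists_sq_sub h2 (a * b * π)
    obtain ⟨hd, he⟩ := hdK K (hprod ▸ Subfield.subset_closure rfl)
    refine mM.2 ⟨fun a' ha' => ?_, fun b' hb' => ?_⟩
    · rw [hde, sub_mul]; exact A.sub_mem ((sq d hd).1 a' ha') ((sq e he).1 a' ha')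
    · rw [hde, sub_mul]; exact B.sub_mem ((sq d hd).2 b' hb') ((sq e he).2 b' hb')
  suffices hall : ∀ {a b : F}, a ∈ A → b ∈ B → a * b * π ∈ M by
    have hπ0 : π ≠ 0 := mul_ne_zero P.ha P.hb
    have hπM : π ∈ M := by simpa using hall hA1 hB1
    refine ⟨M, hπM, fun c => ⟨fun h => ?_, fun h => ?_⟩, fun c => ⟨fun h => ?_, fun h => ?_⟩⟩
    · have := M.div_mem (hall (mem_Hgp.2 h) hB1) hπM
      rwa [mul_one, mul_div_assoc, div_self hπ0, mul_one] at this
    · simpa using mem_Hgp.1 ((mM.1 h).1 1 hA1)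
    · have := M.div_mem (hall hA1 (mem_Hgp.2 h)) hπM
      rwa [one_mul, mul_div_assoc, div_self hπ0, mul_one] at this
    · simpa using mem_Hgp.1 ((mM.1 h).2 1 hB1)
  intro a b ha hb
  by_cases hbig : ∃ t ∈ M, t ≠ 0 ∧ t ^ 2 ≠ 1
  · obtain ⟨t, ht, ht0, ht1⟩ := hbig
    rcases eq_or_ne a 0 with rfl | ha0
    · simp [M.zero_mem]
    rcases eq_or_ne b 0 with rfl | hb0
    · simp [M.zero_mem]
    by_cases hne : (3 : F) = 0 ∧ (a * b * π) ^ 2 = -1
    · have h' := good ((mM.1 ht).1 a ha) hb (mul_ne_zero ht0 ha0) hb0 fun ⟨_, e⟩ => ht1 (by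
        linear_combination -e + (t ^ 2) * hne.2)
      have := M.mul_mem (M.inv_mem ht) h'
      rwa [show t⁻¹ * (t * a * b * π) = a * b * π by field_simp] at this
    · exact good ha hb ha0 hb0 hne
  push Not at hbig
  -- only small parameters
  rcases eq_or_ne a 0 with rfl | ha0
  · simp [M.zero_mem]
  rcases eq_or_ne b 0 with rfl | hb0
  · simp [M.zero_mem]
  by_contra habM
  have hne : (3 : F) = 0 ∧ (a * b * π) ^ 2 = -1 := by
    by_contra h
    exact habM (good ha hb ha0 hb0 h)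
  obtain ⟨h3, hab⟩ := hne
  have four : ∀ {a b : F}, a ∈ A → b ∈ B → a ≠ 0 → b ≠ 0 → (a * b * π) ^ 4 = 1 := fun {a b} ha hb ha0 hb0 => by
    by_cases h : (3 : F) = 0 ∧ (a * b * π) ^ 2 = -1
    · linear_combination ((a * b * π) ^ 2 - 1) * h.2
    · have := hbig _ (good ha hb ha0 hb0 h) (mul_ne_zero (mul_ne_zero ha0 hb0) (mul_ne_zero P.ha P.hb))
      linear_combination ((a * b * π) ^ 2 + 1) * this
  have hπ4 : π ^ 4 = 1 := by simpa using four hA1 hB1 one_ne_zero one_ne_zero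
  have unit : ∀ {C : AddSubgroup F}, (1 : F) ∈ C → (∀ c ∈ C, c ≠ 0 → c ^ 4 = 1) → ∀ c ∈ C, c ≠ 0 → c ^ 2 = 1 := by
    intro C hC1 hC c hc hc0
    have h4 := hC c hc hc0
    have : (c ^ 2 - 1) * (c ^ 2 + 1) = 0 := by linear_combination h4
    refine (mul_eq_zero.1 this).elim sub_eq_zero.1 fun e => absurd ?_ h2
    have hc1 : (1 : F) + c ≠ 0 := fun e' => h2 (by
      linear_combination e - (c - 1) * e')
    have h5 := hC _ (C.add_mem hC1 hc) hc1
    linear_combination -h5 + (c ^ 2 + 4 * c + 5) * e - h3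
  have hAu := unit hA1 fun c hc hc0 => by
    have := four hc hB1 hc0 one_ne_zero
    linear_combination this - c ^ 4 * hπ4
  have hBu := unit hB1 fun c hc hc0 => by
    have := four hA1 hc one_ne_zero hc0
    linear_combination this - c ^ 4 * hπ4
  refine bad_false h2 hirr hU P h3 ?_ fun c hc => ?_
  · rw [← hπdef]
    linear_combination hab - b ^ 2 * π ^ 2 * hAu a ha ha0 - π ^ 2 * hBu b hb hb0
  · by_cases hc0 : c = 0
    · exact Or.inl hc0
    · exact Or.inr (hAu c (mem_Hgp.2 hc) hc0)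

end Cfsg.Lib.MitchellThree.Elation
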